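import Cfsg.Agent.H347.TC.RegU
import Cfsg.Agent.H981.TC.Cube
import Cfsg.Agent.H97.TC.G2Deg
import Cfsg.Agent.ChevalleyStructure.WordCheck

/-!
# `G₂(q)`: the order of a regular unipotent element for `q = 7`; products of three conjugates (helper347)

* `exists_reg7`: `q = 7`: `y` of order `7`, `|C(y)| = 49`, `y` conjugate to `y ^ k`, `7 ∤ k`;
* `cube`: `x` in `chevG2.group F`, `3 ≠ 0`, `|C(x)| ≤ q² - q + 1`: every element is a product of three conjugates of `x`
  (the last condition of S2452).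
-/

set_option autoImplicit false

open Cfsg Subgroup

namespace Cfsg.Agent.H347.TC.RegU

open Cfsg.Lie Cfsg.Agent.ChevalleyStructure Cfsg.Agent.ChevalleyStructure.Elts
open Cfsg.Agent.Omega.TwoF.GTwoLB (inG2 X)
open Cfsg.Agent.ChevalleyStructure.WordCheck (PExpr check xw wval wordMat_eq_of_check)

universe u

/-- the word of `y ^ 7` -/
def w7 : List (ℕ × PExpr) := [(7, .const 1), (6, .const 1), (7, .const 1), (6, .const 1), (7, .const 1), (6, .const 1),
  (7, .const 1), (6, .const 1), (7, .const 1), (6, .const 1), (7, .const 1), (6, .const 1), (7, .const 1), (6, .const 1)]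

set_option maxRecDepth 100000 in
theorem chk7 : check chevG2 7 0 0 (xw w7) (xw []) = true := by decide +kernel

variable {F : Type u} [Field F]

theorem y_pow_seven (h7 : (7 : F) = 0) : y F ^ 7 = 1 := by
  apply Subtype.ext
  apply Units.ext
  have h := wordMat_eq_of_check chevG2 (fun _ : ℕ => (0 : F)) 7 0 0 w7 [] chk7 (by exact_mod_cast h7)
    (fun i hi => absurd hi (Nat.not_lt_zero i))
  have e1 : wval (fun _ : ℕ => (0 : F)) w7 = [(7, 1), (6, 1), (7, 1), (6, 1), (7, 1), (6, 1),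
      (7, 1), (6, 1), (7, 1), (6, 1), (7, 1), (6, 1), (7, 1), (6, 1)] := by
    simp [wval, w7, PExpr.denote]
  have e2 : wval (fun _ : ℕ => (0 : F)) [] = [] := rfl
  rw [e1, e2, wordMat_nil, ← coe_wordG inG2] at h
  rw [Subgroup.coe_one, Units.val_one, ← h]
  congr 1
  simp only [wordG_cons, wordG_nil, mul_one]
  show (((X 7 1 * X 6 1 : ↥(chevG2.group F)) ^ 7 : ↥(chevG2.group F)) : GL chevG2.Idx F) = _
  simp only [pow_succ, pow_zero, one_mul, Subgroup.coe_mul, mul_assoc]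
  rfl

/-- **Regular unipotent elements of `G₂(7)`.** -/
theorem exists_reg7 (F : Type u) [Field F] [Finite F] (hF : Nat.card F = 7) : ∃ y : ↥(chevG2.group F), orderOf y = 7 ∧
      Nat.card (centralizer ({y} : Set ↥(chevG2.group F))) = 7 ^ 2 ∧ ∀ k : ℕ, ¬ 7 ∣ k → IsConj y (y ^ k) := by
  have := Fintype.ofFinite F
  have hp7 : Nat.Prime 7 := by norm_num
  have : Fact (Nat.Prime 7) := ⟨hp7⟩
  have h7 : ((7 : ℕ) : F) = 0 := by
    rw [← hF, Nat.card_eq_fintype_card]
    exact FiniteField.cast_card_eq_zero F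
  have : CharP F 7 := (CharP.charP_iff_prime_eq_zero hp7).2 h7
  have hne : ∀ n : ℕ, 0 < n → n < 7 → (n : F) ≠ 0 := by
    intro n hn hn7 h
    have := (CharP.cast_eq_zero_iff F 7 n).1 h
    exact absurd (Nat.le_of_dvd hn this) (by omega)
  have h2 : (2 : F) ≠ 0 := by exact_mod_cast hne 2 (by norm_num) (by norm_num)
  have h3 : (3 : F) ≠ 0 := by exact_mod_cast hne 3 (by norm_num) (by norm_num)
  refine ⟨y F, ?_, ?_, fun _ hk => isConj_pow h2 h3 7 hk⟩
  · exact orderOf_eq_prime (y_pow_seven (by exact_mod_cast h7)) (y_ne_one 7)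
  · rw [card_eq h2 h3 7, hF]

/-- **Three conjugates.** -/
theorem cube [Finite F] (h3 : (3 : F) ≠ 0) (hq : 3 ≤ Nat.card F) [IsSimpleGroup ↥(chevG2.group F)]
    {x : ↥(chevG2.group F)}
    (hx : Nat.card (centralizer ({x} : Set ↥(chevG2.group F))) ≤ Nat.card F ^ 2 - Nat.card F + 1)
    (g : ↥(chevG2.group F)) : ∃ u v w : ↥(chevG2.group F), g = (u * x * u⁻¹) * (v * x * v⁻¹) * (w * x * w⁻¹) := by
  have := Fintype.ofFinite F
  have hfin : Finite ↥(chevG2.group F) := inferInstance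
  refine Cfsg.Agent.H981.TC.Cube.cu_of_deg hx (d := Nat.card F ^ 2 * (Nat.card F - 1)) ?_
    (fun χ hχ _ => Cfsg.Agent.H97.TC.deg_ge h3 χ hχ) g
  obtain ⟨m, hm⟩ : ∃ m, Nat.card F = m + 1 := ⟨Nat.card F - 1, by omega⟩
  rw [hm]
  have e : (m + 1) ^ 2 - (m + 1) = m * (m + 1) := by
    have : (m + 1) ^ 2 = m * (m + 1) + (m + 1) := by ring
    rw [this, Nat.add_sub_cancel]
  rw [e, Nat.add_sub_cancel]
  have hm0 : 0 < m := by omega
  have h1 : ((m + 1) ^ 2 * m) ^ 2 = (m * (m + 1)) ^ 3 + m ^ 2 * (m + 1) ^ 3 := by ring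
  rw [h1]
  have : 0 < m ^ 2 * (m + 1) ^ 3 := by positivity
  omega

end Cfsg.Agent.H347.TC.RegU
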