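import Mathlib

/-!
# `G₂(7)`: the numbers of the `43`-block (helper347, S2464)
-/

set_option autoImplicit false

namespace Cfsg.Agent.H347.TC.SevenNum

/-- the divisors of `664376138496 = |G₂(7)|` -/
def dv : List ℕ := (List.range 9).flatMap fun a => (List.range 4).flatMap fun b => (List.range 7).flatMap fun c =>
  (List.range 2).flatMap fun e => (List.range 2).map fun f => 2 ^ a * (3 ^ b * (7 ^ c * (19 ^ e * 43 ^ f)))

theorem mem_dv {d : ℕ} (h : d ∣ 664376138496) : d ∈ dv := by
  have e : 664376138496 = 2 ^ 8 * (3 ^ 3 * (7 ^ 6 * (19 ^ 1 * 43 ^ 1))) := by norm_num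
  rw [e] at h
  obtain ⟨a, r1, ha, h1, rfl⟩ := Nat.dvd_mul.1 h
  obtain ⟨b, r2, hb, h2, rfl⟩ := Nat.dvd_mul.1 h1
  obtain ⟨c, r3, hc, h3, rfl⟩ := Nat.dvd_mul.1 h2
  obtain ⟨x, y, hx, hy, rfl⟩ := Nat.dvd_mul.1 h3
  obtain ⟨a, ha6, rfl⟩ := (Nat.dvd_prime_pow Nat.prime_two).1 ha
  obtain ⟨b, hb6, rfl⟩ := (Nat.dvd_prime_pow Nat.prime_three).1 hb
  obtain ⟨c, hc6, rfl⟩ := (Nat.dvd_prime_pow (show Nat.Prime 7 by norm_num)).1 hc
  obtain ⟨x, hx6, rfl⟩ := (Nat.dvd_prime_pow (show Nat.Prime 19 by norm_num)).1 hx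
  obtain ⟨y, hy6, rfl⟩ := (Nat.dvd_prime_pow (show Nat.Prime 43 by norm_num)).1 hy
  simp only [dv, List.mem_flatMap, List.mem_map, List.mem_range]
  exact ⟨a, by omega, b, by omega, c, by omega, x, by omega, y, by omega, rfl⟩

theorem chkO : ∀ d ∈ dv, (d % 43 = 1 ∨ d % 43 = 42) → d % 7 ≠ 0 → d = 1 ∨ d = 128 ∨ d = 171 ∨ d = 216 ∨ d = 21888 := by
  decide +kernel

theorem chkE : ∀ d ∈ dv, (d % 43 = 6 ∨ d % 43 = 37) → d % 7 ≠ 0 →
    d = 6 ∨ d = 608 ∨ d = 768 ∨ d = 1026 ∨ d = 131328 := by
  decide +kernel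

/-- the degrees divisible by seven, with sign -/
def sg : List ℤ := [-343, 1764, -4256, 5376, 7182, 14406, 43904, 58653, -74088, 117649, 178752, -605052, -919296,
  1459808, -1843968, -2463426, -7507584, -15059072, -20117979, 25412184, -61311936, 315318528, 2575101312]

theorem chkS : ∀ d ∈ dv, 294 ≤ d → d % 7 = 0 → (d % 43 = 1 → (d : ℤ) ∈ sg) ∧ (d % 43 = 42 → (-d : ℤ) ∈ sg) := by
  decide +kernel

theorem chkT : ∀ a ∈ sg, ∀ b ∈ sg, ∀ c ∈ sg, a + b + c ≠ -43169 := by
  decide +kernel

theorem main {ι : Type*} [DecidableEq ι] (S : Finset ι) (hS : S.card = 5) (ε v : ι → ℤ) (deg : ι → ℕ) (d w : ℤ) (D : ℕ)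
    (hε : ∀ i ∈ S, ε i = 1 ∨ ε i = -1) (hd : d = 1 ∨ d = -1) (hdeg : ∀ i ∈ S, deg i ∣ 664376138496)
    (hres : ∀ i ∈ S, ∃ m : ℤ, (deg i : ℤ) = ε i + 43 * m) (hv : ∀ i ∈ S, (7 : ℤ) ∣ v i - deg i)
    (hno : ∀ i ∈ S, 294 ≤ deg i) (hD : D ∣ 664376138496) (hDr : ∃ m : ℤ, (D : ℤ) = d * 6 + 43 * m)
    (hw : (7 : ℤ) ∣ w - D) (hDno : 294 ≤ D) (h1 : ∑ i ∈ S, ε i * v i = d * w - 1)
    (h2 : ∑ i ∈ S, v i ^ 2 + 7 * w ^ 2 ≤ 48) (h3 : ∑ i ∈ S, ε i * (deg i : ℤ) = d * D - 1) :
    (∀ i ∈ S, v i = 0) ∨ ∃ j ∈ S, ε j * v j = -1 ∧ ∀ i ∈ S, i ≠ j → v i = 0 := by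
  have hw0 : 0 ≤ 7 * w ^ 2 := by positivity
  have hS0 : 0 ≤ ∑ i ∈ S, v i ^ 2 := Finset.sum_nonneg fun _ _ => by positivity
  -- the values
  have key : ∀ i ∈ S, (v i = 0 ∧ deg i % 7 = 0) ∨ (deg i = 21888 ∧ ε i = 1 ∧ (v i = -1 ∨ v i = 6)) := by
    intro i hi
    have h4 : v i ^ 2 ≤ 48 := by
      have := Finset.single_le_sum (f := fun i => v i ^ 2) (fun _ _ => by positivity) hi
      linarith
    have h5 : -7 < v i ∧ v i < 7 := by constructor <;> nlinarith
    obtain ⟨m, hm⟩ := hres i hi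
    obtain ⟨k, hk⟩ := hv i hi
    have hr : deg i % 43 = 1 ∨ deg i % 43 = 42 := by
      rcases hε i hi with h | h <;> rw [h] at hm <;> omega
    by_cases h6 : deg i % 7 = 0
    · left
      refine ⟨by omega, h6⟩
    · right
      have hno' := hno i hi
      have h7 := chkO _ (mem_dv (hdeg i hi)) hr h6
      have h8 : deg i = 21888 := by omega
      rw [h8] at hm hk
      refine ⟨h8, ?_, by omega⟩
      rcases hε i hi with h | h
      · exact h
      · rw [h] at hm
        omega
  -- the sums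
  set T := (S.filter fun i => v i = -1).card with hT
  set T' := (S.filter fun i => v i = 6).card with hT'
  have e1 : ∑ i ∈ S, ε i * v i = -(T : ℤ) + 6 * T' := by
    have : ∀ i ∈ S, ε i * v i = (if v i = -1 then -1 else 0) + (if v i = 6 then 6 else 0) := by
      intro i hi
      rcases key i hi with ⟨h, -⟩ | ⟨-, h, h' | h'⟩
      · rw [h]; norm_num
      · rw [h, h']; norm_num
      · rw [h, h']; norm_num
    rw [Finset.sum_congr rfl this, Finset.sum_add_distrib, ← Finset.sum_filter, ← Finset.sum_filter, Finset.sum_const,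
      Finset.sum_const, ← hT, ← hT']
    simp only [nsmul_eq_mul]
    ring
  have e2 : ∑ i ∈ S, v i ^ 2 = (T : ℤ) + 36 * T' := by
    have : ∀ i ∈ S, v i ^ 2 = (if v i = -1 then 1 else 0) + (if v i = 6 then 36 else 0) := by
      intro i hi
      rcases key i hi with ⟨h, -⟩ | ⟨-, h, h' | h'⟩
      · rw [h]; norm_num
      · rw [h']; norm_num
      · rw [h']; norm_num
    rw [Finset.sum_congr rfl this, Finset.sum_add_distrib, ← Finset.sum_filter, ← Finset.sum_filter, Finset.sum_const,
      Finset.sum_const, ← hT, ← hT']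
    simp only [nsmul_eq_mul]
    ring
  have e4 : S.card = T + T' + (S.filter fun i => v i = 0).card := by
    have h9 : ∀ i ∈ S, (1 : ℕ) = (if v i = -1 then 1 else 0) + (if v i = 6 then 1 else 0) +
        (if v i = 0 then 1 else 0) := by
      intro i hi
      rcases key i hi with ⟨h, -⟩ | ⟨-, -, h' | h'⟩
      · rw [h]; norm_num
      · rw [h']; norm_num
      · rw [h']; norm_num
    rw [Finset.card_eq_sum_ones, Finset.sum_congr rfl h9, Finset.sum_add_distrib, Finset.sum_add_distrib,
      ← Finset.sum_filter, ← Finset.sum_filter, ← Finset.sum_filter, ← Finset.card_eq_sum_ones,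
      ← Finset.card_eq_sum_ones, ← Finset.card_eq_sum_ones]
  rw [e1] at h1
  rw [e2] at h2
  have h5w : -3 < w ∧ w < 3 := by
    have hT0 : (0 : ℤ) ≤ T := by positivity
    have hT0' : (0 : ℤ) ≤ T' := by positivity
    constructor <;> nlinarith
  obtain ⟨m, hm⟩ := hDr
  obtain ⟨k, hk⟩ := hw
  have hDr' : D % 43 = 6 ∨ D % 43 = 37 := by
    rcases hd with h | h <;> rw [h] at hm <;> omega
  by_cases h6 : D % 7 = 0
  · -- `w = 0`
    have hw1 : w = 0 := by omega
    subst hw1
    right
    have hTT : T' = 0 ∧ T = 1 := by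
      have h7 : d * 0 - 1 = -1 := by ring
      rw [h7] at h1
      omega
    obtain ⟨j, hj⟩ := Finset.card_eq_one.1 hTT.2
    have hjm : j ∈ S.filter fun i => v i = -1 := by rw [hj]; exact Finset.mem_singleton_self j
    obtain ⟨hjS, hj0⟩ := Finset.mem_filter.1 hjm
    refine ⟨j, hjS, ?_, ?_⟩
    · rcases key j hjS with ⟨h, -⟩ | ⟨-, h, -⟩
      · rw [h] at hj0; exact absurd hj0 (by norm_num)
      · rw [h, hj0]; norm_num
    · intro i hi hij
      rcases key i hi with ⟨h, -⟩ | ⟨-, -, h | h⟩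
      · exact h
      · exfalso
        have : i ∈ S.filter fun i => v i = -1 := Finset.mem_filter.2 ⟨hi, h⟩
        rw [hj] at this
        exact hij (Finset.mem_singleton.1 this)
      · exfalso
        have := Finset.card_eq_zero.1 hTT.1
        exact Finset.notMem_empty i (this ▸ Finset.mem_filter.2 ⟨hi, h⟩)
  · have h7 := chkE _ (mem_dv hD) hDr' h6
    have h8 : D = 608 ∨ D = 768 ∨ D = 1026 ∨ D = 131328 := by omega
    rcases h8 with h8 | h8 | h8 | h8
    · -- `608`
      exfalso
      rw [h8] at hk hm h3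
      have hd1 : d = 1 := by
        rcases hd with h | h
        · exact h
        · rw [h] at hm; omega
      have hw2 : w = -1 := by omega
      rw [hd1] at h1 h3
      rw [hw2] at h1 h2
      norm_num at h1 h2
      have hTT : T' = 0 ∧ T = 2 := by omega
      have e3 : ∑ i ∈ S, ε i * (deg i : ℤ) = 21888 * (T : ℤ) + 21888 * T' +
          ∑ i ∈ S.filter (fun i => v i = 0), ε i * (deg i : ℤ) := by
        have : ∀ i ∈ S, ε i * (deg i : ℤ) = (if v i = -1 then 21888 else 0) + (if v i = 6 then 21888 else 0) +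
            (if v i = 0 then ε i * (deg i : ℤ) else 0) := by
          intro i hi
          rcases key i hi with ⟨h, -⟩ | ⟨h0, h, h' | h'⟩
          · rw [h]; norm_num
          · rw [h, h', h0]; norm_num
          · rw [h, h', h0]; norm_num
        rw [Finset.sum_congr rfl this, Finset.sum_add_distrib, Finset.sum_add_distrib, ← Finset.sum_filter,
          ← Finset.sum_filter, ← Finset.sum_filter, Finset.sum_const, Finset.sum_const, ← hT, ← hT']
        simp only [nsmul_eq_mul]
        ring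
      have e5 : (S.filter fun i => v i = 0).card = 3 := by omega
      obtain ⟨a, b, c, hab, hac, hbc, habc⟩ := Finset.card_eq_three.1 e5
      have hmem : ∀ i ∈ S.filter (fun i => v i = 0), ε i * (deg i : ℤ) ∈ sg := by
        intro i hi
        obtain ⟨hiS, hi0⟩ := Finset.mem_filter.1 hi
        have h9 : deg i % 7 = 0 := by
          rcases key i hiS with ⟨-, h⟩ | ⟨-, -, h | h⟩
          · exact h
          · rw [hi0] at h; exact absurd h (by norm_num)
          · rw [hi0] at h; exact absurd h (by norm_num)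
        have h10 := chkS _ (mem_dv (hdeg i hiS)) (hno i hiS) h9
        obtain ⟨m', hm'⟩ := hres i hiS
        rcases hε i hiS with h | h
        · rw [h] at hm' ⊢
          rw [one_mul]
          exact h10.1 (by omega)
        · rw [h] at hm' ⊢
          rw [neg_one_mul]
          exact h10.2 (by omega)
      have ha := hmem a (by rw [habc]; simp)
      have hb := hmem b (by rw [habc]; simp)
      have hc := hmem c (by rw [habc]; simp)
      rw [habc, Finset.sum_insert (by simp [hab, hac]), Finset.sum_insert (by simp [hbc]), Finset.sum_singleton,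
        hTT.1, hTT.2, h3] at e3
      refine chkT _ ha _ hb _ hc ?_
      push_cast at e3
      linarith
    · exfalso
      rw [h8] at hk hm
      have hd1 : d = -1 := by
        rcases hd with h | h
        · rw [h] at hm; omega
        · exact h
      have hw2 : w = -2 := by omega
      rw [hd1] at h1
      rw [hw2] at h1 h2
      norm_num at h1 h2
      omega
    · exfalso
      rw [h8] at hk
      omega
    · left
      rw [h8] at hk hm
      have hd1 : d = 1 := by
        rcases hd with h | h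
        · exact h
        · rw [h] at hm; omega
      have hw2 : w = 1 := by omega
      rw [hd1] at h1
      rw [hw2] at h1 h2
      norm_num at h1 h2
      have hTT : T = 0 ∧ T' = 0 := by omega
      intro i hi
      rcases key i hi with ⟨h, -⟩ | ⟨-, -, h | h⟩
      · exact h
      · exfalso
        have := Finset.card_eq_zero.1 hTT.1
        exact Finset.notMem_empty i (this ▸ Finset.mem_filter.2 ⟨hi, h⟩)
      · exfalso
        have := Finset.card_eq_zero.1 hTT.2
        exact Finset.notMem_empty i (this ▸ Finset.mem_filter.2 ⟨hi, h⟩)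

end Cfsg.Agent.H347.TC.SevenNum
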