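import Cfsg.Agent.H347.TC.GFive
import Cfsg.Agent.H347.TC.SevenNum
import Cfsg.Agent.H347.TC.RegSeven
import Cfsg.Agent.H210.TC.Row

/-!
# S2464 and S2452, the row `G₂(7)` (helper347)

`x` of order `43`, `y` regular unipotent of order `7`: every `g ≠ 1` is a product of a conjugate of `x` and a conjugate
of `y`.  (The argument of helper332: `GP.lean`.)
-/

set_option autoImplicit false

open Cfsg Subgroup

namespace Cfsg.Agent.H347.TC.GSeven

open Cfsg.Lie Cfsg.Agent.Characters Cfsg.Agent.H65.Ore Cfsg.Agent.H332.TC.GP Cfsg.Agent.H347.TC.GFive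

universe u

variable {F : Type u} [Field F] [Finite F]

/-- **S2464, S2452, row `G₂(7)`.** -/
theorem row3_g2_seven (hF : Nat.card F = 7) : H210.TC.Row3 ↥(chevG2.group F) := by
  classical
  have := Fintype.ofFinite F
  have hfin : Finite ↥(chevG2.group F) := inferInstance
  have hFt : Fintype.card F = 7 := by rw [← hF, Nat.card_eq_fintype_card]
  have hp7 : Nat.Prime 7 := by norm_num
  have hp43 : Nat.Prime 43 := by norm_num
  have : Fact (Nat.Prime 7) := ⟨hp7⟩
  have : Fact (Nat.Prime 43) := ⟨hp43⟩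
  have h7 : ((7 : ℕ) : F) = 0 := by
    rw [← hFt]
    exact FiniteField.cast_card_eq_zero F
  have : CharP F 7 := (CharP.charP_iff_prime_eq_zero hp7).2 h7
  have hne : ∀ n : ℕ, 0 < n → n < 7 → (n : F) ≠ 0 := by
    intro n hn hn7 h
    have := (CharP.cast_eq_zero_iff F 7 n).1 h
    exact absurd (Nat.le_of_dvd hn this) (by omega)
  have h2 : (2 : F) ≠ 0 := by exact_mod_cast hne 2 (by norm_num) (by norm_num)
  have h3 : (3 : F) ≠ 0 := by exact_mod_cast hne 3 (by norm_num) (by norm_num)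
  have hsimple : IsSimpleGroup ↥(chevG2.group F) := by
    refine (S1055.result (F := F) ⟨2, h2, fun h => ?_⟩).1
    have : (1 : F) = 0 := by linear_combination h
    exact one_ne_zero this
  have hcard : Nat.card ↥(chevG2.group F) = 664376138496 := by
    rw [S1059.result hFt]
    norm_num
  -- the torus
  obtain ⟨A, T, hT⟩ := H641.TC6.tor6_G2 (F := F) (q := 7) hFt (by norm_num)
  have eN : H946.Num.N6 7 = 43 := by decide
  have ec : H983.KG2.c6 7 = 43 := by decide
  rw [eN, ec] at hT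
  obtain ⟨P, hP, hPc, hPC, hPi⟩ := sylow_of_tor hp43 hT (by rw [hcard]; norm_num)
  have : Finite (IrrCharacter ↥(chevG2.group F)) := Core.finite_irr
  have := Fintype.ofFinite (IrrCharacter ↥(chevG2.group F))
  obtain ⟨B⟩ := exists_blk (r := 43) (by norm_num) hP hPC hPi (t := 7) (by norm_num)
  -- the regular unipotent element
  obtain ⟨y, hyo, hyc, hyr⟩ := RegU.exists_reg7 F hF
  have hEne : B.E.Nonempty := Finset.card_pos.1 (by rw [B.cE]; norm_num)
  obtain ⟨v, w, D, hv, hvD, hED, hwD, hDm, hDG, hs1, hs2, hs3⟩ :=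
    B.vals (n := 1) hp43 hEne hp7 (by norm_num) (by rw [hyo, pow_one]) hyr hyc
  have hne1 : ∀ χ : IrrCharacter ↥(chevG2.group F), χ ≠ one1 _ → 294 ≤ charDegree (χ : ↥(chevG2.group F) → ℂ) := by
    intro χ hχ
    have h := H97.TC.deg_ge h3 χ (coe_ne_one hχ)
    rw [hF] at h
    exact h
  have hE1 : ∀ Θ ∈ B.E, Θ ≠ one1 _ := fun Θ hΘ h => Finset.disjoint_left.1 B.dis B.one (h ▸ hΘ)
  obtain ⟨Θ₀, hΘ₀⟩ := hEne
  have hD0 := hne1 Θ₀ (hE1 Θ₀ hΘ₀)
  rw [hED Θ₀ hΘ₀] at hD0
  have hmain := SevenNum.main (B.F.erase (one1 _)) (by rw [Finset.card_erase_of_mem B.one, B.cF]) B.ε v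
    (fun χ : IrrCharacter ↥(chevG2.group F) => charDegree (χ : ↥(chevG2.group F) → ℂ)) B.d w D
    (fun χ hχ => B.sg χ (Finset.mem_erase.1 hχ).2) B.hd
    (fun χ _ => by rw [← hcard]; exact Blocks.Knorr.charDegree_dvd χ.2)
    (fun χ hχ => by
      obtain ⟨m, hm⟩ := B.resF χ (Finset.mem_erase.1 hχ).2
      exact ⟨m, by exact_mod_cast hm⟩)
    (fun χ _ => by exact_mod_cast hvD χ)
    (fun χ hχ => hne1 χ (Finset.mem_erase.1 hχ).1)
    (by rw [← hcard]; exact hDG)
    (by obtain ⟨m, hm⟩ := hDm; exact ⟨m, by exact_mod_cast hm⟩)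
    (by exact_mod_cast hwD) hD0
    hs1 (by push_cast at hs2 ⊢; linarith) hs3
  -- the element of order 43
  obtain ⟨x, hx, hx1⟩ : ∃ x ∈ (P : Subgroup ↥(chevG2.group F)), x ≠ 1 := by
    by_contra hcon
    push Not at hcon
    have h4 : (P : Subgroup ↥(chevG2.group F)) = ⊥ := (Subgroup.eq_bot_iff_forall _).2 hcon
    rw [h4, Subgroup.card_bot] at hP
    exact absurd hP (by norm_num)
  have hxo : orderOf x = 43 := by
    have h4 : orderOf x ∣ 43 := by
      rw [← hP]
      have := orderOf_dvd_natCard (⟨x, hx⟩ : (P : Subgroup ↥(chevG2.group F)))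
      rwa [Subgroup.orderOf_mk] at this
    rcases (Nat.dvd_prime hp43).1 h4 with h | h
    · exact absurd (orderOf_eq_one_iff.1 h) hx1
    · exact h
  refine ⟨x, y, by rw [hxo]; exact hp43, by rw [hxo]; norm_num, by rw [hyo]; exact hp7, by rw [hyo]; norm_num,
    fun g hg => ?_, fun g => ?_⟩
  · obtain ⟨u, v', h⟩ := B.prd hp43 hP hPc (fun z hz => conj_mem_sylow P z hz) hx hx1
      (by rw [hyo]; norm_num)
      ⟨Θ₀, hΘ₀⟩ (fun Θ hΘ => by have := hne1 Θ (hE1 Θ hΘ); omega)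
      (by
        rcases hmain with h | ⟨χ₀, hχ₀, h0, h⟩
        · left
          intro χ hχ hχ1
          rw [hv χ, h χ (Finset.mem_erase.2 ⟨hχ1, hχ⟩)]
          norm_num
        · right
          refine ⟨χ₀, (Finset.mem_erase.1 hχ₀).2, (Finset.mem_erase.1 hχ₀).1, ?_, ?_⟩
          · rw [hv χ₀]
            exact_mod_cast h0
          · intro χ hχ hχ1 hχ2
            rw [hv χ, h χ (Finset.mem_erase.2 ⟨hχ1, hχ⟩) hχ2]
            norm_num) hg
    exact ⟨u, v', h⟩
  · refine RegU.cube h3 (by rw [hF]; norm_num) (x := x) ?_ g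
    rw [hPc x hx hx1, hP, hF]
    norm_num

/-- the `S2464` form -/
theorem six_g2_seven (hF : Nat.card F = 7) : ∃ x y : ↥(chevG2.group F), Nat.Coprime (orderOf x) 6 ∧
    Nat.Coprime (orderOf y) 6 ∧ ∀ g : ↥(chevG2.group F), g ≠ 1 → ∃ u v : ↥(chevG2.group F),
      g = (u * x * u⁻¹) * (v * y * v⁻¹) := (row3_g2_seven hF).s2464

end Cfsg.Agent.H347.TC.GSeven
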