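import Mathlib

/-!
# `G₂(5)`: the numbers of the `31`-block (helper347, S2464)
-/

set_option autoImplicit false

namespace Cfsg.Agent.H347.TC.FiveNum

/-- the divisors of `5859000000 = |G₂(5)|` -/
def dv : List ℕ := (List.range 7).flatMap fun a => (List.range 4).flatMap fun b => (List.range 7).flatMap fun c =>
  (List.range 2).flatMap fun e => (List.range 2).map fun f => 2 ^ a * (3 ^ b * (5 ^ c * (7 ^ e * 31 ^ f)))

theorem mem_dv {d : ℕ} (h : d ∣ 5859000000) : d ∈ dv := by
  have e : 5859000000 = 2 ^ 6 * (3 ^ 3 * (5 ^ 6 * (7 ^ 1 * 31 ^ 1))) := by norm_num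
  rw [e] at h
  obtain ⟨a, r1, ha, h1, rfl⟩ := Nat.dvd_mul.1 h
  obtain ⟨b, r2, hb, h2, rfl⟩ := Nat.dvd_mul.1 h1
  obtain ⟨c, r3, hc, h3, rfl⟩ := Nat.dvd_mul.1 h2
  obtain ⟨x, y, hx, hy, rfl⟩ := Nat.dvd_mul.1 h3
  obtain ⟨a, ha6, rfl⟩ := (Nat.dvd_prime_pow Nat.prime_two).1 ha
  obtain ⟨b, hb6, rfl⟩ := (Nat.dvd_prime_pow Nat.prime_three).1 hb
  obtain ⟨c, hc6, rfl⟩ := (Nat.dvd_prime_pow Nat.prime_five).1 hc
  obtain ⟨x, hx6, rfl⟩ := (Nat.dvd_prime_pow (show Nat.Prime 7 by norm_num)).1 hx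
  obtain ⟨y, hy6, rfl⟩ := (Nat.dvd_prime_pow (show Nat.Prime 31 by norm_num)).1 hy
  simp only [dv, List.mem_flatMap, List.mem_map, List.mem_range]
  exact ⟨a, by omega, b, by omega, c, by omega, x, by omega, y, by omega, rfl⟩

theorem chkO : ∀ d ∈ dv, (d % 31 = 1 ∨ d % 31 = 30) → d % 5 ≠ 0 → d = 1 ∨ d = 32 ∨ d = 63 ∨ d = 216 ∨ d = 2016 := by
  decide +kernel

theorem chkE : ∀ d ∈ dv, (d % 31 = 6 ∨ d % 31 = 25) → d % 5 ≠ 0 → d = 6 ∨ d = 56 ∨ d = 192 ∨ d = 378 ∨ d = 12096 := by
  decide +kernel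

theorem chkP : ∀ d ∈ dv, d % 31 = 1 → d % 5 = 0 → 8065 + d ∉ dv := by
  decide +kernel

theorem chkM : ∀ d ∈ dv, d % 31 = 30 → d % 5 = 0 → (d < 8065 → 8065 - d ∉ dv) ∧ (8065 < d → d - 8065 ∉ dv) := by
  decide +kernel

theorem main {ι : Type*} [DecidableEq ι] (S : Finset ι) (hS : S.card = 5) (ε v : ι → ℤ) (deg : ι → ℕ) (d w : ℤ) (D : ℕ)
    (hε : ∀ i ∈ S, ε i = 1 ∨ ε i = -1) (hd : d = 1 ∨ d = -1) (hdeg : ∀ i ∈ S, deg i ∣ 5859000000)
    (hres : ∀ i ∈ S, ∃ m : ℤ, (deg i : ℤ) = ε i + 31 * m) (hv : ∀ i ∈ S, (5 : ℤ) ∣ v i - deg i)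
    (hno : ∀ i ∈ S, deg i ≠ 1 ∧ deg i ≠ 32 ∧ deg i ≠ 63 ∧ deg i ≠ 216)
    (hD : D ∣ 5859000000) (hDr : ∃ m : ℤ, (D : ℤ) = d * 6 + 31 * m) (hw : (5 : ℤ) ∣ w - D)
    (hDno : D ≠ 6 ∧ D ≠ 56 ∧ D ≠ 192) (h1 : ∑ i ∈ S, ε i * v i = d * w - 1)
    (h2 : ∑ i ∈ S, v i ^ 2 + 5 * w ^ 2 ≤ 24) (h3 : ∑ i ∈ S, ε i * (deg i : ℤ) = d * D - 1) : ∀ i ∈ S, v i = 0 := by
  have hw0 : 0 ≤ 5 * w ^ 2 := by positivity
  have hS0 : 0 ≤ ∑ i ∈ S, v i ^ 2 := Finset.sum_nonneg fun _ _ => by positivity
  -- the values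
  have key : ∀ i ∈ S, (v i = 0 ∧ deg i % 5 = 0) ∨ (deg i = 2016 ∧ ε i = 1 ∧ (v i = 1 ∨ v i = -4)) := by
    intro i hi
    have h4 : v i ^ 2 ≤ 24 := by
      have := Finset.single_le_sum (f := fun i => v i ^ 2) (fun _ _ => by positivity) hi
      linarith
    have h5 : -5 < v i ∧ v i < 5 := by constructor <;> nlinarith
    obtain ⟨m, hm⟩ := hres i hi
    obtain ⟨k, hk⟩ := hv i hi
    have hr : deg i % 31 = 1 ∨ deg i % 31 = 30 := by
      rcases hε i hi with h | h <;> rw [h] at hm <;> omega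
    by_cases h6 : deg i % 5 = 0
    · left
      refine ⟨by omega, h6⟩
    · right
      have hno' := hno i hi
      have h7 := chkO _ (mem_dv (hdeg i hi)) hr h6
      have h8 : deg i = 2016 := by omega
      rw [h8] at hm hk
      refine ⟨h8, ?_, by omega⟩
      rcases hε i hi with h | h
      · exact h
      · rw [h] at hm
        omega
  -- the sums
  set T := (S.filter fun i => v i = 1).card with hT
  set T' := (S.filter fun i => v i = -4).card with hT'
  have e1 : ∑ i ∈ S, ε i * v i = (T : ℤ) - 4 * T' := by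
    have : ∀ i ∈ S, ε i * v i = (if v i = 1 then 1 else 0) + (if v i = -4 then -4 else 0) := by
      intro i hi
      rcases key i hi with ⟨h, -⟩ | ⟨-, h, h' | h'⟩
      · rw [h]; norm_num
      · rw [h, h']; norm_num
      · rw [h, h']; norm_num
    rw [Finset.sum_congr rfl this, Finset.sum_add_distrib, ← Finset.sum_filter, ← Finset.sum_filter, Finset.sum_const,
      Finset.sum_const, ← hT, ← hT']
    simp only [nsmul_eq_mul]
    ring
  have e2 : ∑ i ∈ S, v i ^ 2 = (T : ℤ) + 16 * T' := by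
    have : ∀ i ∈ S, v i ^ 2 = (if v i = 1 then 1 else 0) + (if v i = -4 then 16 else 0) := by
      intro i hi
      rcases key i hi with ⟨h, -⟩ | ⟨-, h, h' | h'⟩
      · rw [h]; norm_num
      · rw [h']; norm_num
      · rw [h']; norm_num
    rw [Finset.sum_congr rfl this, Finset.sum_add_distrib, ← Finset.sum_filter, ← Finset.sum_filter, Finset.sum_const,
      Finset.sum_const, ← hT, ← hT']
    simp only [nsmul_eq_mul]
    ring
  rw [e1] at h1
  rw [e2] at h2
  have h5w : -3 < w ∧ w < 3 := by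
    have hT0 : (0 : ℤ) ≤ T := by positivity
    have hT0' : (0 : ℤ) ≤ T' := by positivity
    constructor <;> nlinarith
  obtain ⟨m, hm⟩ := hDr
  obtain ⟨k, hk⟩ := hw
  have hDr' : D % 31 = 6 ∨ D % 31 = 25 := by
    rcases hd with h | h <;> rw [h] at hm <;> omega
  by_cases h6 : D % 5 = 0
  · -- `w = 0`
    have hw1 : w = 0 := by omega
    subst hw1
    exfalso
    have hTT : T' = 1 ∧ T = 3 := by
      have h7 : d * 0 - 1 = -1 := by ring
      rw [h7] at h1
      have h8 : (5 : ℤ) * 0 ^ 2 = 0 := by norm_num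
      rw [h8] at h2
      omega
    -- the degrees
    have e3 : ∑ i ∈ S, ε i * (deg i : ℤ) = 2016 * (T : ℤ) + 2016 * T' +
        ∑ i ∈ S.filter (fun i => v i = 0), ε i * (deg i : ℤ) := by
      have : ∀ i ∈ S, ε i * (deg i : ℤ) = (if v i = 1 then 2016 else 0) + (if v i = -4 then 2016 else 0) +
          (if v i = 0 then ε i * (deg i : ℤ) else 0) := by
        intro i hi
        rcases key i hi with ⟨h, -⟩ | ⟨h0, h, h' | h'⟩
        · rw [h]; norm_num
        · rw [h, h', h0]; norm_num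
        · rw [h, h', h0]; norm_num
      rw [Finset.sum_congr rfl this, Finset.sum_add_distrib, Finset.sum_add_distrib, ← Finset.sum_filter,
        ← Finset.sum_filter, ← Finset.sum_filter, Finset.sum_const, Finset.sum_const, ← hT, ← hT']
      simp only [nsmul_eq_mul]
      ring
    have e4 : (S.filter fun i => v i = 0).card = 1 := by
      have : S.card = T + T' + (S.filter fun i => v i = 0).card := by
        have h9 : ∀ i ∈ S, (1 : ℕ) = (if v i = 1 then 1 else 0) + (if v i = -4 then 1 else 0) +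
            (if v i = 0 then 1 else 0) := by
          intro i hi
          rcases key i hi with ⟨h, -⟩ | ⟨-, -, h' | h'⟩
          · rw [h]; norm_num
          · rw [h']; norm_num
          · rw [h']; norm_num
        rw [Finset.card_eq_sum_ones, Finset.sum_congr rfl h9, Finset.sum_add_distrib, Finset.sum_add_distrib,
          ← Finset.sum_filter, ← Finset.sum_filter, ← Finset.sum_filter, ← Finset.card_eq_sum_ones,
          ← Finset.card_eq_sum_ones, ← Finset.card_eq_sum_ones]
      omega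
    obtain ⟨j, hj⟩ := Finset.card_eq_one.1 e4
    rw [hj, Finset.sum_singleton, hTT.1, hTT.2, h3] at e3
    have hjm : j ∈ S.filter fun i => v i = 0 := by rw [hj]; exact Finset.mem_singleton_self j
    obtain ⟨hjS, hj0⟩ := Finset.mem_filter.1 hjm
    have hj5 : deg j % 5 = 0 := by
      rcases key j hjS with ⟨-, h⟩ | ⟨-, -, h | h⟩
      · exact h
      · rw [hj0] at h; exact absurd h (by norm_num)
      · rw [hj0] at h; exact absurd h (by norm_num)
    obtain ⟨m', hm'⟩ := hres j hjS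
    have hjd := mem_dv (hdeg j hjS)
    have hDd := mem_dv hD
    rcases hε j hjS with h | h
    · rw [h] at e3 hm'
      have h7 := chkP _ hjd (by omega) hj5
      rcases hd with h' | h'
      · rw [h'] at e3
        apply h7
        have : 8065 + deg j = D := by push_cast at e3; omega
        rw [this]; exact hDd
      · rw [h'] at e3
        push_cast at e3
        omega
    · rw [h] at e3 hm'
      have h7 := chkM _ hjd (by omega) hj5
      rcases hd with h' | h'
      · rw [h'] at e3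
        have hD0 : 0 < D := Nat.pos_of_dvd_of_pos hD (by norm_num)
        refine h7.1 (by push_cast at e3; omega) ?_
        have : 8065 - deg j = D := by push_cast at e3; omega
        rw [this]; exact hDd
      · rw [h'] at e3
        have hD0 : 0 < D := Nat.pos_of_dvd_of_pos hD (by norm_num)
        refine h7.2 (by push_cast at e3; omega) ?_
        have : deg j - 8065 = D := by push_cast at e3; omega
        rw [this]; exact hDd
  · have h7 := chkE _ (mem_dv hD) hDr' h6
    have h8 : D = 378 ∨ D = 12096 := by omega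
    have hd1 : d = 1 := by
      rcases hd with h | h
      · exact h
      · rw [h] at hm
        rcases h8 with h8 | h8 <;> rw [h8] at hm <;> omega
    have hTT : T = 0 ∧ T' = 0 := by
      rw [hd1] at h1
      rcases h8 with h8 | h8
      · rw [h8] at hk
        have hw2 : w = -2 := by omega
        rw [hw2] at h1 h2
        norm_num at h1 h2
        omega
      · rw [h8] at hk
        have hw2 : w = 1 := by omega
        rw [hw2] at h1 h2
        norm_num at h1 h2
        omega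
    intro i hi
    rcases key i hi with ⟨h, -⟩ | ⟨-, -, h | h⟩
    · exact h
    · exfalso
      have := Finset.card_eq_zero.1 hTT.1
      exact Finset.notMem_empty i (this ▸ Finset.mem_filter.2 ⟨hi, h⟩)
    · exfalso
      have := Finset.card_eq_zero.1 hTT.2
      exact Finset.notMem_empty i (this ▸ Finset.mem_filter.2 ⟨hi, h⟩)

end Cfsg.Agent.H347.TC.FiveNum
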