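import Cfsg.Agent.H347.TC.GFiveZ
import Cfsg.Agent.H347.TC.FiveNum
import Cfsg.Agent.H332.TC.GP
import Cfsg.Agent.H641.TC6.GTor
import Cfsg.Agent.S1055

/-!
# S2464, the row `G₂(5)` (helper347)

`x` of order `31`, `y` regular unipotent: every `g ≠ 1` is a product of a conjugate of `x` and a conjugate of `y`.
(The argument of helper332: `GP.lean`.)
-/

set_option autoImplicit false

open Cfsg Subgroup

namespace Cfsg.Agent.H347.TC.GFive

open Cfsg.Lie Cfsg.Agent.Characters Cfsg.Agent.H65.Ore Cfsg.Agent.H332.TC.GP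

universe u

section abs

variable {G : Type u} [Group G] [Finite G]

/-- a self-centralizing cyclic torus of prime order is a Sylow subgroup -/
theorem sylow_of_tor {r w : ℕ} (hr : r.Prime) {A T : Subgroup G} (h : H641.TC6.TorD G r r w A T)
    (h1 : ¬ r ^ 2 ∣ Nat.card G) : ∃ P : Sylow r G, Nat.card (P : Subgroup G) = r ∧
      (∀ x ∈ (P : Subgroup G), x ≠ 1 → centralizer ({x} : Set G) = P) ∧
      centralizer ((P : Subgroup G) : Set G) = (P : Subgroup G) ∧
      (centralizer ((P : Subgroup G) : Set G)).relIndex (normalizer ((P : Subgroup G) : Set G)) = w := by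
  have := Fact.mk hr
  have hAT : A = T := Subgroup.eq_of_le_of_card_ge h.le (by rw [h.cardA, h.cardT])
  have hrd : r ^ 1 ∣ Nat.card G := by
    rw [pow_one, ← h.cardA]
    exact Subgroup.card_subgroup_dvd_card A
  have hf : (Nat.card G).factorization r = 1 := by
    have h2 := (hr.pow_dvd_iff_le_factorization (Nat.card_pos (α := G)).ne').1 hrd
    by_contra h3
    exact h1 ((hr.pow_dvd_iff_le_factorization (Nat.card_pos (α := G)).ne').2 (by omega))
  have hA : Nat.card A = r ^ (Nat.card G).factorization r := by rw [h.cardA, hf, pow_one]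
  have hcent : ∀ x ∈ A, x ≠ 1 → centralizer ({x} : Set G) = A := fun x hx hx1 => by rw [h.cent x hx hx1, hAT]
  have hC : centralizer (A : Set G) = A := by
    apply le_antisymm
    · obtain ⟨a, ha, ha1⟩ : ∃ a ∈ A, a ≠ 1 := by
        by_contra hcon
        push Not at hcon
        have h2 : A = ⊥ := (Subgroup.eq_bot_iff_forall A).2 hcon
        have h3 := h.cardA
        rw [h2, Subgroup.card_bot] at h3
        exact hr.one_lt.ne h3
      exact (centralizer_le (Set.singleton_subset_iff.2 ha)).trans (hcent a ha ha1).le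
    · intro x hx
      rw [mem_centralizer_iff]
      intro y hy
      exact H641.TC6.comm_of_cyc h.cycT (h.le hy) (h.le hx)
  refine ⟨Sylow.ofCard A hA, h.cardA, hcent, hC, ?_⟩
  show (centralizer (A : Set G)).relIndex (normalizer (A : Set G)) = w
  rw [hC]
  have h2 := Subgroup.card_mul_index (A.subgroupOf (normalizer (A : Set G)))
  rw [Nat.card_congr (Subgroup.subgroupOfEquivOfLe (le_normalizer (H := A))).toEquiv, h.cardN, h.cardA] at h2
  refine Nat.eq_of_mul_eq_mul_left hr.pos ?_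
  rw [mul_comm r w]
  exact h2

/-- elements of order `r` -/
theorem conj_mem_sylow {r : ℕ} [Fact r.Prime] (P : Sylow r G) (z : G) (hz : orderOf z = r) :
    ∃ c : G, c * z * c⁻¹ ∈ (P : Subgroup G) := by
  have h1 : IsPGroup r (zpowers z) := IsPGroup.of_card (n := 1) (by rw [Nat.card_zpowers, hz, pow_one])
  obtain ⟨Q, hQ⟩ := h1.exists_le_sylow
  obtain ⟨c, hc⟩ := MulAction.exists_smul_eq G Q P
  refine ⟨c, ?_⟩
  have h2 : z ∈ (Q : Subgroup G) := hQ (mem_zpowers z)
  rw [← hc]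
  exact ⟨z, h2, rfl⟩

end abs

variable {F : Type u} [Field F] [Finite F]

/-- **S2464, row `G₂(5)`.** -/
theorem six_g2_five (hF : Nat.card F = 5) : ∃ x y : ↥(chevG2.group F), Nat.Coprime (orderOf x) 6 ∧
    Nat.Coprime (orderOf y) 6 ∧ ∀ g : ↥(chevG2.group F), g ≠ 1 → ∃ u v : ↥(chevG2.group F),
      g = (u * x * u⁻¹) * (v * y * v⁻¹) := by
  classical
  have := Fintype.ofFinite F
  have hfin : Finite ↥(chevG2.group F) := inferInstance
  have hFt : Fintype.card F = 5 := by rw [← hF, Nat.card_eq_fintype_card]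
  have hp5 : Nat.Prime 5 := by norm_num
  have hp31 : Nat.Prime 31 := by norm_num
  have : Fact (Nat.Prime 5) := ⟨hp5⟩
  have : Fact (Nat.Prime 31) := ⟨hp31⟩
  have h5 : ((5 : ℕ) : F) = 0 := by
    rw [← hFt]
    exact FiniteField.cast_card_eq_zero F
  have : CharP F 5 := (CharP.charP_iff_prime_eq_zero hp5).2 h5
  have hne : ∀ n : ℕ, 0 < n → n < 5 → (n : F) ≠ 0 := by
    intro n hn hn5 h
    have := (CharP.cast_eq_zero_iff F 5 n).1 h
    exact absurd (Nat.le_of_dvd hn this) (by omega)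
  have h2 : (2 : F) ≠ 0 := by exact_mod_cast hne 2 (by norm_num) (by norm_num)
  have h3 : (3 : F) ≠ 0 := by exact_mod_cast hne 3 (by norm_num) (by norm_num)
  have hsimple : IsSimpleGroup ↥(chevG2.group F) := by
    refine (S1055.result (F := F) ⟨2, h2, fun h => ?_⟩).1
    have : (1 : F) = 0 := by linear_combination h
    exact one_ne_zero this
  have hcard : Nat.card ↥(chevG2.group F) = 5859000000 := by
    rw [S1059.result hFt]
    norm_num
  -- the torus
  obtain ⟨A, T, hT⟩ := H641.TC6.tor3_G2 (F := F) (q := 5) hFt (by norm_num)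
  have eN : H946.Num.N3 5 = 31 := by decide
  have ec : H983.KG2.c3 5 = 31 := by decide
  rw [eN, ec] at hT
  obtain ⟨P, hP, hPc, hPC, hPi⟩ := sylow_of_tor hp31 hT (by rw [hcard]; norm_num)
  have : Finite (IrrCharacter ↥(chevG2.group F)) := Core.finite_irr
  have := Fintype.ofFinite (IrrCharacter ↥(chevG2.group F))
  obtain ⟨B⟩ := exists_blk (r := 31) (by norm_num) hP hPC hPi (t := 5) (by norm_num)
  -- the regular unipotent element
  obtain ⟨y, ⟨n, hyo⟩, hy1, hyc, hyr⟩ := RegU.exists_reg F h2 h3 5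
  rw [hF] at hyc
  have hEne : B.E.Nonempty := Finset.card_pos.1 (by rw [B.cE]; norm_num)
  obtain ⟨v, w, D, hv, hvD, hED, hwD, hDm, hDG, hs1, hs2, hs3⟩ :=
    B.vals hp31 hEne hp5 (by norm_num) hyo hyr hyc
  have hne1 : ∀ χ : IrrCharacter ↥(chevG2.group F), χ ≠ one1 _ → 100 ≤ charDegree (χ : ↥(chevG2.group F) → ℂ) ∧
      charDegree (χ : ↥(chevG2.group F) → ℂ) ≠ 192 ∧ charDegree (χ : ↥(chevG2.group F) → ℂ) ≠ 216 :=
    fun χ hχ => deg_ne hF χ (coe_ne_one hχ)
  have hE1 : ∀ Θ ∈ B.E, Θ ≠ one1 _ := fun Θ hΘ h => Finset.disjoint_left.1 B.dis B.one (h ▸ hΘ)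
  obtain ⟨Θ₀, hΘ₀⟩ := hEne
  have hD0 := hne1 Θ₀ (hE1 Θ₀ hΘ₀)
  rw [hED Θ₀ hΘ₀] at hD0
  have hmain := FiveNum.main (B.F.erase (one1 _)) (by rw [Finset.card_erase_of_mem B.one, B.cF]) B.ε v
    (fun χ : IrrCharacter ↥(chevG2.group F) => charDegree (χ : ↥(chevG2.group F) → ℂ)) B.d w D
    (fun χ hχ => B.sg χ (Finset.mem_erase.1 hχ).2) B.hd
    (fun χ _ => by rw [← hcard]; exact Blocks.Knorr.charDegree_dvd χ.2)
    (fun χ hχ => by
      obtain ⟨m, hm⟩ := B.resF χ (Finset.mem_erase.1 hχ).2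
      exact ⟨m, by exact_mod_cast hm⟩)
    (fun χ _ => by exact_mod_cast hvD χ)
    (fun χ hχ => by
      have := hne1 χ (Finset.mem_erase.1 hχ).1
      refine ⟨by omega, by omega, by omega, this.2.2⟩)
    (by rw [← hcard]; exact hDG)
    (by obtain ⟨m, hm⟩ := hDm; exact ⟨m, by exact_mod_cast hm⟩)
    (by exact_mod_cast hwD) (by refine ⟨by omega, by omega, hD0.2.1⟩)
    hs1 (by push_cast at hs2 ⊢; linarith) hs3
  -- the element of order 31
  obtain ⟨x, hx, hx1⟩ : ∃ x ∈ (P : Subgroup ↥(chevG2.group F)), x ≠ 1 := by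
    by_contra hcon
    push Not at hcon
    have h4 : (P : Subgroup ↥(chevG2.group F)) = ⊥ := (Subgroup.eq_bot_iff_forall _).2 hcon
    rw [h4, Subgroup.card_bot] at hP
    exact absurd hP (by norm_num)
  have hxo : orderOf x = 31 := by
    have h4 : orderOf x ∣ 31 := by
      rw [← hP]
      have := orderOf_dvd_natCard (⟨x, hx⟩ : (P : Subgroup ↥(chevG2.group F)))
      rwa [Subgroup.orderOf_mk] at this
    rcases (Nat.dvd_prime hp31).1 h4 with h | h
    · exact absurd (orderOf_eq_one_iff.1 h) hx1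
    · exact h
  refine ⟨x, y, by rw [hxo]; norm_num, by rw [hyo]; exact Nat.Coprime.pow_left n (by norm_num), fun g hg => ?_⟩
  obtain ⟨u, v', h⟩ := B.prd hp31 hP hPc (fun z hz => conj_mem_sylow P z hz) hx hx1
    (by rw [hyo]; exact fun h => absurd ((Nat.prime_dvd_prime_iff_eq hp31 hp5).1 (hp31.dvd_of_dvd_pow h)) (by norm_num))
    ⟨Θ₀, hΘ₀⟩ (fun Θ hΘ => by have := (hne1 Θ (hE1 Θ hΘ)).1; omega)
    (Or.inl fun χ hχ hχ1 => by
      rw [hv χ, hmain χ (Finset.mem_erase.2 ⟨hχ1, hχ⟩)]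
      norm_num) hg
  exact ⟨u, v', h⟩

end Cfsg.Agent.H347.TC.GFive
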