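import Cfsg.Agent.H869.TD.Reg
import Cfsg.Agent.Hexagon.G2Par
import Cfsg.Agent.H228.RegUnip
import Cfsg.Agent.H446.TC6.GTwoCent
import Cfsg.Agent.S1026
import Cfsg.Agent.S1027

/-!
# Regular unipotent elements of `G₂(q)`, `q` prime to `6` (helper347)

`exists_reg`: an element `y` of `chevG2.group F`, `2, 3 ≠ 0` in the finite field `F` of characteristic `p`, whose order
is a power of `p`, with `|C(y)| = |F| ^ 2` and conjugate to `y ^ k` for all `k` prime to `p`.
-/

set_option autoImplicit false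
set_option linter.unusedSectionVars false

open Cfsg Subgroup

namespace Cfsg.Agent.H347.TC.RegU

open Cfsg.Lie Cfsg.Agent.ChevalleyStructure Cfsg.Agent.ChevalleyStructure.Elts
open Cfsg.Agent.Omega.TwoF.GTwoLB (inG2 X H H_conj X_add X_zero X_neg)
open Cfsg.Agent.SplitTwo Cfsg.Agent.H869.TD
open Cfsg.Agent.H228.RegUnip
open Cfsg.Agent.H446.TC6.GTwoCent (hpG2 posRoots_eq)

universe u

variable {F : Type u} [Field F]

theorem y_eq {r : ℕ} (_hr : r < 12) (t : F) (h : Cfsg.Agent.ChevalleyStructure.G2N.xG r t ∈ chevG2.group F) :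
    (⟨Cfsg.Agent.ChevalleyStructure.G2N.xG r t, h⟩ : ↥(chevG2.group F)) = X r t := by
  apply Subtype.ext
  apply Units.ext
  show ((Cfsg.Agent.ChevalleyStructure.G2N.xG r t : GL chevG2.Idx F) : Matrix chevG2.Idx chevG2.Idx F) =
    ((xG inG2 r t : GL chevG2.Idx F) : Matrix chevG2.Idx chevG2.Idx F)
  rw [Cfsg.Agent.ChevalleyStructure.G2N.coe_xG, coe_xG]

/-- the hexagonal relations -/
theorem hex : HexRel (RingEquiv.refl F) (X (F := F) 7) (fun t => X 10 (-t)) (fun t => X 9 (-t)) (X 11) (X 8) (X 6) := by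
  have h := Cfsg.Agent.Hexagon.G2Par.hexRel' (K := F)
  have e1 : (Cfsg.Agent.Hexagon.G2Par.y1 : F → ↥(chevG2.group F)) = X 7 := by
    funext t; exact y_eq (by norm_num) t _
  have e2 : (Cfsg.Agent.Hexagon.G2Par.y2 : F → ↥(chevG2.group F)) = fun t => X 10 (-t) := by
    funext t; exact y_eq (by norm_num) (-t) _
  have e3 : (Cfsg.Agent.Hexagon.G2Par.y3 : F → ↥(chevG2.group F)) = fun t => X 9 (-t) := by
    funext t; exact y_eq (by norm_num) (-t) _
  have e4 : (Cfsg.Agent.Hexagon.G2Par.y4 : F → ↥(chevG2.group F)) = X 11 := by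
    funext t; exact y_eq (by norm_num) t _
  have e5 : (Cfsg.Agent.Hexagon.G2Par.y5 : F → ↥(chevG2.group F)) = X 8 := by
    funext t; exact y_eq (by norm_num) t _
  have e6 : (Cfsg.Agent.Hexagon.G2Par.y6 : F → ↥(chevG2.group F)) = X 6 := by
    funext t; exact y_eq (by norm_num) t _
  rw [e1, e2, e3, e4, e5, e6] at h
  exact h

/-- the positive unipotent subgroup -/
def U (F : Type u) [Field F] : Subgroup ↥(chevG2.group F) := (chevG2.posUnipotent F).subgroupOf (chevG2.group F)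

theorem X_mem {r : ℕ} (h6 : 6 ≤ r) (h12 : r < 12) (t : F) : X r t ∈ U F := by
  rw [U, mem_subgroupOf]
  refine xG_mem_posUnipotent inG2 ?_ _
  interval_cases r <;> decide

theorem card_U [Finite F] : Nat.card (U F) = Nat.card F ^ 6 := by
  have := Fintype.ofFinite F
  have h1 : Nat.card (chevG2.posUnipotent F) = Fintype.card F ^ 6 := Cfsg.Agent.S1027.result chevG2 (by simp)
  have h2 : chevG2.posUnipotent F ≤ chevG2.group F := by
    refine (posUnipotent_le_iff inG2 _).2 fun r _ t => xG_mem_group inG2 r t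
  rw [U, Nat.card_congr (Subgroup.subgroupOfEquivOfLe h2).toEquiv, h1, Nat.card_eq_fintype_card]

/-- the coordinates of an element of `U` -/
noncomputable def w (b a c d e f : F) : ↥(chevG2.group F) := X 6 b * X 7 a * X 8 c * X 9 d * X 10 e * X 11 f

def tt (b a c d e f : F) : ℕ → F
  | 6 => b
  | 7 => a
  | 8 => c
  | 9 => d
  | 10 => e
  | 11 => f
  | _ => 0

theorem coe_w (b a c d e f : F) : ((w b a c d e f : ↥(chevG2.group F)) : GL chevG2.Idx F) =
    wordG inG2 (chevG2.posRoots.map fun r => (r, tt b a c d e f r)) := by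
  rw [posRoots_eq]
  simp only [List.map_cons, List.map_nil, wordG_cons, wordG_nil, tt, mul_one]
  show xG inG2 6 b * xG inG2 7 a * xG inG2 8 c * xG inG2 9 d * xG inG2 10 e * xG inG2 11 f = _
  group

theorem tt_zero (b a c d e f : F) (r : ℕ) (hr : ¬ chevG2.IsPosRoot r) : tt b a c d e f r = 0 := by
  have h : ∀ r, ¬ chevG2.IsPosRoot r → r ≠ 6 ∧ r ≠ 7 ∧ r ≠ 8 ∧ r ≠ 9 ∧ r ≠ 10 ∧ r ≠ 11 := by
    intro r hr
    refine ⟨?_, ?_, ?_, ?_, ?_, ?_⟩ <;> rintro rfl <;> exact hr (by decide)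
  obtain ⟨h6, h7, h8, h9, h10, h11⟩ := h r hr
  unfold tt
  split <;> first | rfl | (exfalso; omega)

theorem w_inj {b a c d e f b' a' c' d' e' f' : F} (h : w b a c d e f = w b' a' c' d' e' f') :
    b = b' ∧ a = a' ∧ c = c' ∧ d = d' ∧ e = e' ∧ f = f' := by
  have h1 : ((w b a c d e f : ↥(chevG2.group F)) : GL chevG2.Idx F) = w b' a' c' d' e' f' := congrArg Subtype.val h
  have hm : ((w b a c d e f : ↥(chevG2.group F)) : GL chevG2.Idx F) ∈ chevG2.posUnipotent F := by
    have : w b a c d e f ∈ U F := by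
      unfold w
      exact mul_mem (mul_mem (mul_mem (mul_mem (mul_mem (X_mem (by norm_num) (by norm_num) _)
        (X_mem (by norm_num) (by norm_num) _)) (X_mem (by norm_num) (by norm_num) _))
        (X_mem (by norm_num) (by norm_num) _)) (X_mem (by norm_num) (by norm_num) _))
        (X_mem (by norm_num) (by norm_num) _)
    exact this
  obtain ⟨v, -, hv⟩ := (Cfsg.Agent.S1026.result chevG2 (by simp)).1 _ hm
  have h3 := hv (tt b a c d e f) ⟨tt_zero b a c d e f, (eq_wordG_iff inG2 _ _).1 (coe_w b a c d e f)⟩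
  have h4 := hv (tt b' a' c' d' e' f') ⟨tt_zero b' a' c' d' e' f', (eq_wordG_iff inG2 _ _).1
    (h1.trans (coe_w b' a' c' d' e' f'))⟩
  have h5 := h3.trans h4.symm
  exact ⟨congrFun h5 6, congrFun h5 7, congrFun h5 8, congrFun h5 9, congrFun h5 10, congrFun h5 11⟩

theorem exists_w {v : ↥(chevG2.group F)} (hv : v ∈ U F) : ∃ b a c d e f : F, v = w b a c d e f := by
  obtain ⟨t, ⟨-, ht⟩, -⟩ := (Cfsg.Agent.S1026.result chevG2 (by simp)).1 _ (mem_subgroupOf.1 hv)
  have ht' := (eq_wordG_iff inG2 _ _).2 ht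
  refine ⟨t 6, t 7, t 8, t 9, t 10, t 11, Subtype.ext ?_⟩
  rw [ht', posRoots_eq]
  simp only [List.map_cons, List.map_nil, wordG_cons, wordG_nil, mul_one]
  show _ = xG inG2 6 (t 6) * xG inG2 7 (t 7) * xG inG2 8 (t 8) * xG inG2 9 (t 9) * xG inG2 10 (t 10) * xG inG2 11 (t 11)
  group

/-- `x₁(a) x₆(b) x₅(c) x₃ x₂ x₄` -/
noncomputable def w' (a b c d e f : F) : ↥(chevG2.group F) := X 7 a * X 6 b * X 8 c * X 9 d * X 10 e * X 11 f

/-- moving `x₆` -/
theorem conj6 (b a c d e f : F) : (X 6 b)⁻¹ * w b a c d e f * X 6 b = w' a b c d e (-e * b + f) := by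
  have R := hex (F := F)
  have k26 := kk_eq (R.c26 (-e) b rfl rfl)
  have k36 := kk_comm (R.c36 (-d) b rfl)
  have k46 := kk_comm (R.c46 f b rfl rfl)
  have k56 := kk_comm (R.c56 c b rfl)
  simp only [neg_neg] at k26 k36
  unfold w w'
  calc (X 6 b)⁻¹ * (X 6 b * X 7 a * X 8 c * X 9 d * X 10 e * X 11 f) * X 6 b
      = X 7 a * X 8 c * X 9 d * X 10 e * (X 11 f * X 6 b) := by group
    _ = X 7 a * X 8 c * X 9 d * (X 6 b * ((X 6 b)⁻¹ * X 10 e * X 6 b)) * X 11 f := by rw [k46]; group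
    _ = X 7 a * X 8 c * (X 9 d * X 6 b) * X 10 e * X 11 (-e * b) * X 11 f := by rw [k26]; group
    _ = X 7 a * (X 8 c * X 6 b) * X 9 d * X 10 e * (X 11 (-e * b) * X 11 f) := by rw [k36]; group
    _ = _ := by rw [k56, ← X_add]; group

/-- the torus -/
theorem conjT {a b : F} (ha : a ≠ 0) (hb : b ≠ 0) (c d e f : F) : ∃ g : ↥(chevG2.group F), ∃ c' d' e' f' : F,
    g * w' a b c d e f * g⁻¹ = w' 1 1 c' d' e' f' := by
  have key : ∀ (x y : F), x ≠ 0 → y ≠ 0 → ∀ s < 12, ∀ t : F,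
      (H 0 x * H 1 y) * X s t * (H 0 x * H 1 y)⁻¹ = X s (x ^ (chevG2.cartan 0 s) * (y ^ (chevG2.cartan 1 s) * t)) := by
    intro x y hx hy s hs t
    have e1 : (H 0 x * H 1 y) * X s t * (H 0 x * H 1 y)⁻¹ = H 0 x * (H 1 y * X s t * (H 1 y)⁻¹) * (H 0 x)⁻¹ := by
      group
    rw [e1, H_conj (by norm_num) hs hy, H_conj (by norm_num) hs hx]
  have ha' : a⁻¹ ≠ 0 := inv_ne_zero ha
  have hb' : b⁻¹ ≠ 0 := inv_ne_zero hb
  obtain ⟨x, hx⟩ : ∃ x : F, x = b⁻¹ * a⁻¹ ^ 2 := ⟨_, rfl⟩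
  obtain ⟨y, hy⟩ : ∃ y : F, y = b⁻¹ ^ 2 * a⁻¹ ^ 3 := ⟨_, rfl⟩
  have hx0 : x ≠ 0 := by rw [hx]; exact mul_ne_zero hb' (pow_ne_zero _ ha')
  have hy0 : y ≠ 0 := by rw [hy]; exact mul_ne_zero (pow_ne_zero _ hb') (pow_ne_zero _ ha')
  have k := key x y hx0 hy0
  refine ⟨H 0 x * H 1 y, x ^ (chevG2.cartan 0 8) * (y ^ (chevG2.cartan 1 8) * c),
    x ^ (chevG2.cartan 0 9) * (y ^ (chevG2.cartan 1 9) * d), x ^ (chevG2.cartan 0 10) * (y ^ (chevG2.cartan 1 10) * e),
    x ^ (chevG2.cartan 0 11) * (y ^ (chevG2.cartan 1 11) * f), ?_⟩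
  have e' : ∀ g x1 x2 x3 x4 x5 x6 : ↥(chevG2.group F), g * (x1 * x2 * x3 * x4 * x5 * x6) * g⁻¹ =
      (g * x1 * g⁻¹) * (g * x2 * g⁻¹) * (g * x3 * g⁻¹) * (g * x4 * g⁻¹) * (g * x5 * g⁻¹) * (g * x6 * g⁻¹) := by
    intro g x1 x2 x3 x4 x5 x6
    group
  unfold w'
  rw [e', k 7 (by norm_num), k 6 (by norm_num), k 8 (by norm_num), k 9 (by norm_num), k 10 (by norm_num),
    k 11 (by norm_num)]
  have c07 : chevG2.cartan 0 7 = 2 := by decide
  have c17 : chevG2.cartan 1 7 = -1 := by decide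
  have c06 : chevG2.cartan 0 6 = -3 := by decide
  have c16 : chevG2.cartan 1 6 = 2 := by decide
  have e7 : x ^ (chevG2.cartan 0 7) * (y ^ (chevG2.cartan 1 7) * a) = 1 := by
    rw [c07, c17, hx, hy, zpow_neg, zpow_one]
    rw [show ((2 : ℤ)) = ((2 : ℕ) : ℤ) from rfl, zpow_natCast]
    field_simp
  have e6 : x ^ (chevG2.cartan 0 6) * (y ^ (chevG2.cartan 1 6) * b) = 1 := by
    rw [c06, c16, hx, hy, zpow_neg]
    rw [show ((2 : ℤ)) = ((2 : ℕ) : ℤ) from rfl, zpow_natCast, show ((3 : ℤ)) = ((3 : ℕ) : ℤ) from rfl, zpow_natCast]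
    field_simp
  rw [e7, e6]

/-- the regular unipotent element -/
noncomputable def y (F : Type u) [Field F] : ↥(chevG2.group F) := X 7 1 * X 6 1

theorem ucon (h2 : (2 : F) ≠ 0) (h3 : (3 : F) ≠ 0) (c d e f : F) : UCon (U F) (w' 1 1 c d e f) (y F) := by
  have h := reg_con (hex (F := F)) (U := U F) (fun a => X_mem (by norm_num) (by norm_num) a)
    (fun a _ => X_mem (by norm_num) (by norm_num) (-a)) (fun a => X_mem (by norm_num) (by norm_num) (-a))
    (fun a => X_mem (by norm_num) (by norm_num) a) h2 h3 (b := c) (c := -d) (d := -e) (e := f) rfl rfl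
  unfold nn at h
  simp only [neg_neg] at h
  have e1 : w' 1 1 c d e f = X 7 1 * X 6 1 * X 8 c * (X 9 d * X 10 e * X 11 f) := by unfold w'; group
  rw [e1]
  exact h

/-- **all regular elements are conjugate** -/
theorem isConj (h2 : (2 : F) ≠ 0) (h3 : (3 : F) ≠ 0) {a b : F} (ha : a ≠ 0) (hb : b ≠ 0) (c d e f : F) :
    IsConj (y F) (w b a c d e f) := by
  obtain ⟨g, c', d', e', f', h⟩ := conjT ha hb c d e (-e * b + f)
  obtain ⟨v, -, hv⟩ := ucon h2 h3 c' d' e' f'
  have h6 := conj6 b a c d e f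
  rw [← h6] at h
  have h1 : IsConj (w b a c d e f) (w' 1 1 c' d' e' f') := by
    rw [isConj_iff]
    exact ⟨g * (X 6 b)⁻¹, by rw [← h]; group⟩
  have h4 : IsConj (w' 1 1 c' d' e' f') (y F) := by
    rw [isConj_iff]
    exact ⟨v⁻¹, by rw [inv_inv]; exact hv⟩
  exact (h1.trans h4).symm

theorem y_mem : y F ∈ U F := mul_mem (X_mem (by norm_num) (by norm_num) _) (X_mem (by norm_num) (by norm_num) _)

/-! ### the centralizer -/

section fin

variable [Finite F]

/-- `y` is regular -/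
theorem isReg (p : ℕ) [Fact p.Prime] [CharP F p] :
    IsReg hpG2 CoxeterMatrix.G₂.toCoxeterSystem ((y F : ↥(chevG2.group F)) : GL chevG2.Idx F) := by
  have h := isReg_wordG (hp := hpG2) (cs := CoxeterMatrix.G₂.toCoxeterSystem) (K := F) p [(7, 1), (6, 1)]
    (by
      intro c hc
      simp only [List.mem_cons, List.not_mem_nil, or_false] at hc
      rcases hc with rfl | rfl
      · show chevG2.IsPosRoot 7
        decide
      · show chevG2.IsPosRoot 6
        decide)
    (by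
      intro i
      fin_cases i
      · have e1 : (7 : ℕ) = chevG2.simple 0 := by decide
        have e2 : (6 : ℕ) ≠ chevG2.simple 0 := by decide
        simp [cw, ← e1]
      · have e1 : (6 : ℕ) = chevG2.simple 1 := by decide
        simp [cw, ← e1])
  have e : ((y F : ↥(chevG2.group F)) : GL chevG2.Idx F) = wordG hpG2.inList [(7, 1), (6, 1)] := by
    rw [wordG_cons, wordG_cons, wordG_nil, mul_one]
    rfl
  rw [e]
  exact h

theorem cent_le (p : ℕ) [Fact p.Prime] [CharP F p] : centralizer ({y F} : Set ↥(chevG2.group F)) ≤ U F := by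
  intro g hg
  have h1 := mem_centralizer_singleton_iff.1 hg
  rw [U, mem_subgroupOf]
  exact mem_U_of_commute (hp := hpG2) (cs := CoxeterMatrix.G₂.toCoxeterSystem) p (isReg p) g.2
    (congrArg Subtype.val h1)

theorem w'_inj {c d e f c' d' e' f' : F} (h : w' 1 1 c d e f = w' 1 1 c' d' e' f') :
    c = c' ∧ d = d' ∧ e = e' ∧ f = f' := by
  unfold w' at h
  have h1 : w 0 0 c d e f = w 0 0 c' d' e' f' := by
    unfold w
    rw [X_zero, X_zero]
    simp only [mul_assoc] at h ⊢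
    have := mul_left_cancel (mul_left_cancel h)
    rw [this]
  obtain ⟨-, -, h2⟩ := w_inj h1
  exact h2

theorem card_le (h2 : (2 : F) ≠ 0) (h3 : (3 : F) ≠ 0) (p : ℕ) [Fact p.Prime] [CharP F p] :
    Nat.card (centralizer ({y F} : Set ↥(chevG2.group F))) ≤ Nat.card F ^ 2 := by
  classical
  have := Fintype.ofFinite F
  have hfin : Finite ↥(chevG2.group F) := inferInstance
  choose v hv hvy using ucon (F := F) h2 h3
  have h1 : Nat.card (F × F × F × F × centralizer ({y F} : Set ↥(chevG2.group F))) ≤ Nat.card (U F) := by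
    refine Nat.card_le_card_of_injective (fun x => ⟨v x.1 x.2.1 x.2.2.1 x.2.2.2.1 * x.2.2.2.2,
      mul_mem (hv _ _ _ _) (cent_le p x.2.2.2.2.2)⟩) ?_
    rintro ⟨c, d, e, f, s⟩ ⟨c', d', e', f', s'⟩ h
    have h4 : v c d e f * (s : ↥(chevG2.group F)) = v c' d' e' f' * s' := congrArg Subtype.val h
    have hs := mem_centralizer_singleton_iff.1 s.2
    have hs' := mem_centralizer_singleton_iff.1 s'.2
    have e1 : ∀ (g x : ↥(chevG2.group F)), g * y F = y F * g → x⁻¹ * w' 1 1 c d e f * x = y F →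
        w' 1 1 c d e f = (x * g) * y F * (x * g)⁻¹ := by
      intro g x hg hx
      rw [mul_assoc x g, hg, ← hx]
      group
    have e2 : ∀ (g x : ↥(chevG2.group F)), g * y F = y F * g → x⁻¹ * w' 1 1 c' d' e' f' * x = y F →
        w' 1 1 c' d' e' f' = (x * g) * y F * (x * g)⁻¹ := by
      intro g x hg hx
      rw [mul_assoc x g, hg, ← hx]
      group
    have h5 := e1 s _ hs (hvy c d e f)
    have h6 := e2 s' _ hs' (hvy c' d' e' f')
    rw [h4, ← h6] at h5
    obtain ⟨rfl, rfl, rfl, rfl⟩ := w'_inj h5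
    have h7 := mul_left_cancel h4
    rw [Subtype.ext h7]
  rw [card_U, Nat.card_prod, Nat.card_prod, Nat.card_prod, Nat.card_prod] at h1
  have hq : 0 < Nat.card F := Nat.card_pos
  refine le_of_mul_le_mul_left ?_ (pow_pos hq 4)
  calc Nat.card F ^ 4 * Nat.card (centralizer ({y F} : Set ↥(chevG2.group F))) =
      Nat.card F * (Nat.card F * (Nat.card F * (Nat.card F * Nat.card
        (centralizer ({y F} : Set ↥(chevG2.group F)))))) := by ring
    _ ≤ _ := h1
    _ = _ := by ring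

/-! ### the powers -/

theorem cmp_w (p : ℕ) [Fact p.Prime] [CharP F p] (b a c d e f : F) :
    Cmp hpG2 CoxeterMatrix.G₂.toCoxeterSystem 0 ((w b a c d e f : ↥(chevG2.group F)) : GL chevG2.Idx F) a ∧
      Cmp hpG2 CoxeterMatrix.G₂.toCoxeterSystem 1 ((w b a c d e f : ↥(chevG2.group F)) : GL chevG2.Idx F) b := by
  have h0 := cmp_wordG (hp := hpG2) (cs := CoxeterMatrix.G₂.toCoxeterSystem) p 0
    (chevG2.posRoots.map fun r => (r, tt b a c d e f r)) (by
      intro c hc
      obtain ⟨r, hr, rfl⟩ := List.mem_map.1 hc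
      rw [ChevalleyDatum.posRoots, List.mem_filter] at hr
      exact of_decide_eq_true hr.2)
  have h1 := cmp_wordG (hp := hpG2) (cs := CoxeterMatrix.G₂.toCoxeterSystem) p 1
    (chevG2.posRoots.map fun r => (r, tt b a c d e f r)) (by
      intro c hc
      obtain ⟨r, hr, rfl⟩ := List.mem_map.1 hc
      rw [ChevalleyDatum.posRoots, List.mem_filter] at hr
      exact of_decide_eq_true hr.2)
  have e1 : chevG2.simple 0 = 7 := by decide
  have e2 : chevG2.simple 1 = 6 := by decide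
  constructor
  · rw [coe_w]
    have e : cw chevG2 ((0 : Fin 2) : ℕ) (chevG2.posRoots.map fun r => (r, tt b a c d e f r)) = a := by
      rw [posRoots_eq]
      simp [cw, e1, tt]
    rw [e] at h0
    exact h0
  · rw [coe_w]
    have e : cw chevG2 ((1 : Fin 2) : ℕ) (chevG2.posRoots.map fun r => (r, tt b a c d e f r)) = b := by
      rw [posRoots_eq]
      simp [cw, e2, tt]
    rw [e] at h1
    exact h1

theorem cmp_y (p : ℕ) [Fact p.Prime] [CharP F p] (i : Fin 2) :
    Cmp hpG2 CoxeterMatrix.G₂.toCoxeterSystem i ((y F : ↥(chevG2.group F)) : GL chevG2.Idx F) 1 := by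
  have h := cmp_wordG (hp := hpG2) (cs := CoxeterMatrix.G₂.toCoxeterSystem) (K := F) p i [(7, 1), (6, 1)]
    (by
      intro c hc
      simp only [List.mem_cons, List.not_mem_nil, or_false] at hc
      rcases hc with rfl | rfl
      · show chevG2.IsPosRoot 7
        decide
      · show chevG2.IsPosRoot 6
        decide)
  have e : ((y F : ↥(chevG2.group F)) : GL chevG2.Idx F) = wordG hpG2.inList [(7, 1), (6, 1)] := by
    rw [wordG_cons, wordG_cons, wordG_nil, mul_one]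
    rfl
  rw [e]
  have e2 : cw chevG2 (i : ℕ) ([(7, 1), (6, 1)] : List (ℕ × F)) = 1 := by
    fin_cases i
    · have e1 : chevG2.simple 0 = 7 := by decide
      simp [cw, e1]
    · have e1 : chevG2.simple 1 = 6 := by decide
      simp [cw, e1]
  rw [e2] at h
  exact h

theorem cmp_pow (p : ℕ) [Fact p.Prime] [CharP F p] (i : Fin 2) (k : ℕ) :
    Cmp hpG2 CoxeterMatrix.G₂.toCoxeterSystem i ((y F ^ k : ↥(chevG2.group F)) : GL chevG2.Idx F) (k : F) := by
  induction k with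
  | zero =>
    rw [pow_zero, Nat.cast_zero]
    exact cmp_one
  | succ k ih =>
    rw [pow_succ, Nat.cast_succ]
    exact Cmp.mul p ih (cmp_y p i)

theorem isConj_pow (h2 : (2 : F) ≠ 0) (h3 : (3 : F) ≠ 0) (p : ℕ) [Fact p.Prime] [CharP F p] {k : ℕ} (hk : ¬ p ∣ k) :
    IsConj (y F) (y F ^ k) := by
  obtain ⟨b, a, c, d, e, f, h⟩ := exists_w (pow_mem (y_mem (F := F)) k)
  have hk0 : (k : F) ≠ 0 := fun h0 => hk ((CharP.cast_eq_zero_iff F p k).1 h0)
  have h0 := cmp_pow (F := F) p 0 k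
  have h1 := cmp_pow (F := F) p 1 k
  rw [h] at h0 h1
  have ha : a = k := ((cmp_w p b a c d e f).1).unique p h0
  have hb : b = k := ((cmp_w p b a c d e f).2).unique p h1
  rw [h]
  exact isConj h2 h3 (ha ▸ hk0) (hb ▸ hk0) c d e f

theorem y_ne_one (p : ℕ) [Fact p.Prime] [CharP F p] : y F ≠ 1 := by
  intro h
  have h1 := cmp_y (F := F) p 0
  rw [h] at h1
  have h2 := h1.unique p cmp_one
  exact one_ne_zero h2

theorem orderOf_y (p : ℕ) [hp : Fact p.Prime] [CharP F p] : ∃ n, orderOf (y F) = p ^ n := by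
  have := Fintype.ofFinite F
  obtain ⟨f, -, hK⟩ := FiniteField.card F p
  have hU : Nat.card (U F) = p ^ ((f : ℕ) * 6) := by
    rw [card_U, Nat.card_eq_fintype_card, hK, pow_mul]
  have h1 : IsPGroup p (U F) := IsPGroup.of_card hU
  have hfin : Finite ↥(chevG2.group F) := inferInstance
  obtain ⟨n, hn⟩ := (IsPGroup.iff_orderOf.1 h1) ⟨y F, y_mem⟩
  refine ⟨n, ?_⟩
  rw [← hn]
  exact (Subgroup.orderOf_mk (y F) y_mem).symm

/-- `|C(y)| = q²` -/
theorem card_eq (h2 : (2 : F) ≠ 0) (h3 : (3 : F) ≠ 0) (p : ℕ) [Fact p.Prime] [CharP F p] :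
    Nat.card (centralizer ({y F} : Set ↥(chevG2.group F))) = Nat.card F ^ 2 := by
  refine le_antisymm (card_le h2 h3 p) ?_
  have hfin : Finite ↥(chevG2.group F) := inferInstance
  have key : ∀ u : U F, ∃ k : F × F × F × F,
      (u : ↥(chevG2.group F)) * y F * (u : ↥(chevG2.group F))⁻¹ = w 1 1 k.1 k.2.1 k.2.2.1 k.2.2.2 := by
    intro u
    obtain ⟨b, a, c, d, e, f, h⟩ := exists_w (mul_mem (mul_mem u.2 (y_mem (F := F))) (inv_mem u.2))
    obtain ⟨b', a', c', d', e', f', h'⟩ := exists_w u.2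
    have hc : ∀ i : Fin 2, Cmp hpG2 CoxeterMatrix.G₂.toCoxeterSystem i
        (((u : ↥(chevG2.group F)) * y F * (u : ↥(chevG2.group F))⁻¹ : ↥(chevG2.group F)) : GL chevG2.Idx F) 1 := by
      intro i
      obtain ⟨s, hs⟩ : ∃ s, Cmp hpG2 CoxeterMatrix.G₂.toCoxeterSystem i
          ((u : ↥(chevG2.group F)) : GL chevG2.Idx F) s := by
        rw [h']
        fin_cases i
        · exact ⟨_, (cmp_w p b' a' c' d' e' f').1⟩
        · exact ⟨_, (cmp_w p b' a' c' d' e' f').2⟩
      have h1 := (hs.mul p (cmp_y p i)).mul p (hs.inv p)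
      rw [show s + 1 + -s = 1 by ring] at h1
      exact h1
    have h0 := hc 0
    have h1 := hc 1
    rw [h] at h0 h1
    have ha : a = 1 := ((cmp_w p b a c d e f).1).unique p h0
    have hb : b = 1 := ((cmp_w p b a c d e f).2).unique p h1
    refine ⟨(c, d, e, f), ?_⟩
    rw [h, ha, hb]
  choose k hk using key
  have hle := cent_le (F := F) p
  have h4 : Nat.card (U F ⧸ (centralizer ({y F} : Set ↥(chevG2.group F))).subgroupOf (U F)) ≤
      Nat.card (F × F × F × F) := by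
    refine Nat.card_le_card_of_injective (fun c => k c.out) ?_
    intro c c' h
    have h5 : k c.out = k c'.out := h
    have h6 := hk c.out
    rw [h5, ← hk c'.out] at h6
    rw [← Quotient.out_eq c, ← Quotient.out_eq c']
    refine Quotient.sound ?_
    rw [← Quotient.eq_iff_equiv, QuotientGroup.eq]
    rw [mem_subgroupOf, mem_centralizer_singleton_iff]
    push_cast
    have h7 : ∀ g g' y : ↥(chevG2.group F), g * y * g⁻¹ = g' * y * g'⁻¹ → g⁻¹ * g' * y = y * (g⁻¹ * g') := by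
      intro g g' y h
      have h8 : y = g⁻¹ * (g' * y * g'⁻¹) * g := by rw [← h]; group
      calc g⁻¹ * g' * y = (g⁻¹ * (g' * y * g'⁻¹) * g) * (g⁻¹ * g') := by group
        _ = y * (g⁻¹ * g') := by rw [← h8]
    exact h7 _ _ _ h6
  have h5 := Subgroup.card_mul_index ((centralizer ({y F} : Set ↥(chevG2.group F))).subgroupOf (U F))
  rw [Nat.card_congr (Subgroup.subgroupOfEquivOfLe hle).toEquiv, card_U] at h5
  rw [Nat.card_prod, Nat.card_prod, Nat.card_prod] at h4
  have hq : 0 < Nat.card F := Nat.card_pos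
  refine le_of_mul_le_mul_right ?_ (pow_pos hq 4)
  calc Nat.card F ^ 2 * Nat.card F ^ 4 = Nat.card F ^ 6 := by ring
    _ = _ := h5.symm
    _ ≤ Nat.card (centralizer ({y F} : Set ↥(chevG2.group F))) * (Nat.card F * (Nat.card F * (Nat.card F * Nat.card F))) :=
      Nat.mul_le_mul_left _ h4
    _ = _ := by ring

/-- **Regular unipotent elements.** -/
theorem exists_reg (F : Type u) [Field F] [Finite F] (h2 : (2 : F) ≠ 0) (h3 : (3 : F) ≠ 0) (p : ℕ) [Fact p.Prime]
    [CharP F p] : ∃ y : ↥(chevG2.group F), (∃ n, orderOf y = p ^ n) ∧ y ≠ 1 ∧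
      Nat.card (centralizer ({y} : Set ↥(chevG2.group F))) = Nat.card F ^ 2 ∧
      ∀ k : ℕ, ¬ p ∣ k → IsConj y (y ^ k) :=
  ⟨y F, orderOf_y p, y_ne_one p, card_eq h2 h3 p, fun _ hk => isConj_pow h2 h3 p hk⟩

end fin

end Cfsg.Agent.H347.TC.RegU
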