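import Cfsg.Agent.H347.TC.Zint
import Cfsg.Agent.H347.TC.RegU
import Cfsg.Agent.J3Type.CharTools
import Cfsg.Agent.Blocks.Elementary
import Cfsg.Agent.S1037
import Cfsg.Agent.S1059

/-!
# `G₂(5)`: no irreducible character of degree `192` or `216` (helper347, S2464)
-/

set_option autoImplicit false

open Cfsg Subgroup

namespace Cfsg.Agent.H347.TC.GFive

open Cfsg.Lie Cfsg.Agent.ChevalleyStructure Cfsg.Agent.ChevalleyStructure.Elts Cfsg.Agent.Characters
open Cfsg.Agent.Omega.TwoF.GTwoLB (inG2 X X_add X_eq_one X_comm rel0)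
open Cfsg.Agent.ChevalleyStructure.WordCheck (PExpr check xw wval wordMat_eq_of_check)

universe u

variable {F : Type u} [Field F]

/-- the element of order three -/
def w3 : List (ℕ × PExpr) := [(7, .const 1), (4, .const 2), (7, .const 1), (4, .const 2), (7, .const 1), (4, .const 2)]

/-- the element of order six -/
def w6 : List (ℕ × PExpr) := [(7, .const 1), (4, .const 4), (7, .const 1), (4, .const 4), (7, .const 1), (4, .const 4),
  (7, .const 1), (4, .const 4), (7, .const 1), (4, .const 4), (7, .const 1), (4, .const 4)]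

/-- the action of its cube -/
def wl : List (ℕ × PExpr) := [(7, .const 1), (4, .const 4), (7, .const 1), (4, .const 4), (7, .const 1), (4, .const 4),
  (6, .const 1)]
def wr : List (ℕ × PExpr) := [(6, .const (-1)), (7, .const 1), (4, .const 4), (7, .const 1), (4, .const 4), (7, .const 1),
  (4, .const 4)]

theorem chk3 : check chevG2 5 0 0 (xw w3) (xw []) = true := by decide +kernel
theorem chk6 : check chevG2 5 0 0 (xw w6) (xw []) = true := by decide +kernel
theorem chkl : check chevG2 5 0 0 (xw wl) (xw wr) = true := by decide +kernel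

theorem coe_prod (l : List (ℕ × F)) :
    (((l.map fun p => X p.1 p.2).prod : ↥(chevG2.group F)) : GL chevG2.Idx F) = wordG inG2 l := by
  induction l with
  | nil => simp [wordG_nil]
  | cons a l ih =>
    rw [List.map_cons, List.prod_cons, Subgroup.coe_mul, ih, wordG_cons]
    rfl

theorem eq_of_check (h5 : (5 : F) = 0) {w1 w2 : List (ℕ × PExpr)} (h : check chevG2 5 0 0 (xw w1) (xw w2) = true)
    (l1 l2 : List (ℕ × F)) (e1 : wval (fun _ : ℕ => (0 : F)) w1 = l1) (e2 : wval (fun _ : ℕ => (0 : F)) w2 = l2) :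
    ((l1.map fun p => X p.1 p.2).prod : ↥(chevG2.group F)) = (l2.map fun p => X p.1 p.2).prod := by
  have h1 := wordMat_eq_of_check chevG2 (fun _ : ℕ => (0 : F)) 5 0 0 w1 w2 h (by exact_mod_cast h5)
    (fun i hi => absurd hi (Nat.not_lt_zero i))
  rw [e1, e2, ← coe_wordG inG2, ← coe_wordG inG2] at h1
  apply Subtype.ext
  rw [coe_prod, coe_prod]
  exact Units.ext h1

/-- `X 4` and `X 7` commute with `X 11` -/
theorem c74 (t u v : F) : (X 7 t * X 4 u) * X 11 v = X 11 v * (X 7 t * X 4 u) := by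
  have h1 : X 11 v * X 7 t = X 7 t * X 11 v :=
    rel0 (r := 7) (s := 11) (by norm_num) (by norm_num) (by decide) (by decide) (by decide +kernel) t v
  have h2 : X 11 v * X 4 u = X 4 u * X 11 v :=
    rel0 (r := 4) (s := 11) (by norm_num) (by norm_num) (by decide) (by decide) (by decide +kernel) u v
  rw [mul_assoc, ← h2, ← mul_assoc, ← h1, mul_assoc]

/-- opposite root groups -/
theorem x74 (t u : F) (h : X 7 t * X 4 u = 1) : t = 0 := by
  have h1 : X 7 t = (X 4 u)⁻¹ := eq_inv_of_mul_eq_one_left h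
  have hp : ((X 7 t : ↥(chevG2.group F)) : GL chevG2.Idx F) ∈ chevG2.posUnipotent F :=
    xG_mem_posUnipotent inG2 (by decide) t
  have hn : ((X 7 t : ↥(chevG2.group F)) : GL chevG2.Idx F) ∈ chevG2.negUnipotent F := by
    rw [h1, Subgroup.coe_inv]
    refine inv_mem (Subgroup.subset_closure ⟨4, u, by decide, ?_⟩)
    exact coe_xG inG2 4 u
  have h2 := (S1037.result (F := F) chevG2 (by simp)).1
  have h3 : ((X 7 t : ↥(chevG2.group F)) : GL chevG2.Idx F) ∈ chevG2.borelSubgroup F ⊓ chevG2.negUnipotent F :=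
    ⟨Subgroup.mem_sup_left hp, hn⟩
  rw [h2, Subgroup.mem_bot] at h3
  exact (X_eq_one (by norm_num)).1 (Subtype.ext h3)

variable [Finite F]

theorem six_dvd (h5 : (5 : F) = 0) : 6 ∣ Nat.card (centralizer ({X (F := F) 11 1} : Set ↥(chevG2.group F))) := by
  have := Fintype.ofFinite F
  have hfin : Finite ↥(chevG2.group F) := inferInstance
  have h2 : (2 : F) ≠ 0 := by
    intro h
    have : (1 : F) = 0 := by
      have : (1 : F) = 5 - 2 * 2 := by norm_num
      rw [this, h5, h]; ring
    exact one_ne_zero this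
  have hmem : ∀ a : ↥(chevG2.group F), a * X 11 1 = X 11 1 * a →
      orderOf a ∣ Nat.card (centralizer ({X (F := F) 11 1} : Set ↥(chevG2.group F))) := by
    intro a ha
    have h := orderOf_dvd_natCard (⟨a, mem_centralizer_singleton_iff.2 ha⟩ : centralizer ({X (F := F) 11 1} : Set _))
    rwa [Subgroup.orderOf_mk] at h
  -- order three
  have h3 : (X 7 1 * X 4 2 : ↥(chevG2.group F)) ^ 3 = 1 := by
    have h := eq_of_check h5 chk3 [(7, 1), (4, 2), (7, 1), (4, 2), (7, 1), (4, 2)] [] (by simp [wval, w3, PExpr.denote])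
      rfl
    simp only [List.map_cons, List.map_nil, List.prod_cons, List.prod_nil, mul_one] at h
    simp only [pow_succ, pow_zero, one_mul, mul_assoc]
    exact h
  have h3' : (X 7 1 * X 4 2 : ↥(chevG2.group F)) ≠ 1 := fun h => one_ne_zero (x74 _ _ h)
  have hp3 : Fact (Nat.Prime 3) := ⟨Nat.prime_three⟩
  have ho3 := orderOf_eq_prime h3 h3'
  have hd3 := hmem _ (c74 1 2 1)
  rw [ho3] at hd3
  -- order two
  have h6 : ((X 7 1 * X 4 4 : ↥(chevG2.group F)) ^ 3) ^ 2 = 1 := by
    have h := eq_of_check h5 chk6 [(7, 1), (4, 4), (7, 1), (4, 4), (7, 1), (4, 4), (7, 1), (4, 4), (7, 1), (4, 4),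
      (7, 1), (4, 4)] [] (by simp [wval, w6, PExpr.denote]) rfl
    simp only [List.map_cons, List.map_nil, List.prod_cons, List.prod_nil, mul_one] at h
    rw [← pow_mul]
    simp only [Nat.reduceMul, pow_succ, pow_zero, one_mul, mul_assoc]
    exact h
  have h6' : (X 7 1 * X 4 4 : ↥(chevG2.group F)) ^ 3 ≠ 1 := by
    intro h0
    have h := eq_of_check h5 chkl [(7, 1), (4, 4), (7, 1), (4, 4), (7, 1), (4, 4), (6, 1)]
      [(6, -1), (7, 1), (4, 4), (7, 1), (4, 4), (7, 1), (4, 4)] (by simp [wval, wl, PExpr.denote])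
      (by simp [wval, wr, PExpr.denote])
    simp only [List.map_cons, List.map_nil, List.prod_cons, List.prod_nil, mul_one] at h
    have e : (X 7 1 * X 4 4 : ↥(chevG2.group F)) ^ 3 = X 7 1 * (X 4 4 * (X 7 1 * (X 4 4 * (X 7 1 * X 4 4)))) := by
      simp only [pow_succ, pow_zero, one_mul, mul_assoc]
    have e1 : (X 7 1 * (X 4 4 * (X 7 1 * (X 4 4 * (X 7 1 * (X 4 4 * X 6 1))))) : ↥(chevG2.group F)) =
        (X 7 1 * X 4 4 : ↥(chevG2.group F)) ^ 3 * X 6 1 := by rw [e]; simp only [mul_assoc]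
    rw [e1, ← e, h0, one_mul, mul_one] at h
    have h7 : X 6 (1 + 1 : F) = 1 := by
      rw [X_add]
      nth_rw 1 [h]
      rw [← X_add, neg_add_cancel, Cfsg.Agent.Omega.TwoF.GTwoLB.X_zero]
    have h8 := (X_eq_one (by norm_num)).1 h7
    apply h2
    rw [← h8]
    norm_num
  have hp2 : Fact (Nat.Prime 2) := ⟨Nat.prime_two⟩
  have ho2 := orderOf_eq_prime h6 h6'
  have hd2 := hmem _ ((show Commute (X 7 1 * X 4 4 : ↥(chevG2.group F)) (X 11 1) from c74 1 4 1).pow_left 3)
  rw [ho2] at hd2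
  exact Nat.Coprime.mul_dvd_of_dvd_of_dvd (by norm_num : Nat.Coprime 2 3) hd2 hd3

/-- **The degrees.** -/
theorem deg_ne [IsSimpleGroup ↥(chevG2.group F)] (hF : Nat.card F = 5) (χ : IrrCharacter ↥(chevG2.group F))
    (hχ : (χ : ↥(chevG2.group F) → ℂ) ≠ 1) :
    100 ≤ charDegree (χ : ↥(chevG2.group F) → ℂ) ∧ charDegree (χ : ↥(chevG2.group F) → ℂ) ≠ 192 ∧
      charDegree (χ : ↥(chevG2.group F) → ℂ) ≠ 216 := by
  have := Fintype.ofFinite F
  have hfin : Finite ↥(chevG2.group F) := inferInstance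
  have h5 : ((5 : ℕ) : F) = 0 := by
    rw [← hF, Nat.card_eq_fintype_card]
    exact FiniteField.cast_card_eq_zero F
  have h5' : (5 : F) = 0 := by exact_mod_cast h5
  have h3 : (3 : F) ≠ 0 := by
    intro h
    have : (1 : F) = 0 := by
      have : (1 : F) = 3 * 2 - 5 := by norm_num
      rw [this, h5', h]; ring
    exact one_ne_zero this
  obtain ⟨N, hN1, hN, hle⟩ := Cfsg.Agent.H347.TC.Zint.g2_mult h3 χ hχ
  rw [hF] at hN hle
  obtain ⟨k, hk⟩ := six_dvd (F := F) h5'
  have hcard : Nat.card ↥(chevG2.group F) = 5859000000 := by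
    rw [S1059.result (q := 5) (by rw [← hF, Nat.card_eq_fintype_card])]
    norm_num
  have hidx := Subgroup.index_mul_card (centralizer ({X (F := F) 11 1} : Set ↥(chevG2.group F)))
  rw [hcard, hk] at hidx
  -- integrality
  have hint := Blocks.Elementary.isIntegral_centralChar χ.2 (X 11 1)
  obtain ⟨n, hn⟩ := Core.isCharacter_apply_one (Core.isIrr_isCharacter χ.2)
  have hdn := Blocks.Basic.charDegree_of_eq hn
  rw [hdn] at hN hle ⊢
  have hn100 : 100 ≤ n := by nlinarith
  have hdvd : (n : ℤ) ∣ (centralizer ({X (F := F) 11 1} : Set ↥(chevG2.group F))).index * ((n : ℤ) - 125 * N) := by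
    refine J3Type.CharTools.dvd_of_integral (by omega) hint ?_
    rw [centralChar, hN, hn]
    have : (n : ℂ) ≠ 0 := by exact_mod_cast (by omega : n ≠ 0)
    push_cast
    field_simp
  generalize (centralizer ({X (F := F) 11 1} : Set ↥(chevG2.group F))).index = I at hidx hdvd
  have hI : I ∣ 976500000 := by
    have h6 : 6 * (I * k) = 5859000000 := by rw [← hidx]; ring
    exact ⟨k, by omega⟩
  obtain ⟨j, hj⟩ := hI
  have hdvd2 : (n : ℤ) ∣ 976500000 * ((n : ℤ) - 125 * N) := by
    have e : (976500000 : ℤ) * ((n : ℤ) - 125 * N) = (I * ((n : ℤ) - 125 * N)) * j := by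
      have : (976500000 : ℤ) = I * j := by exact_mod_cast hj
      rw [this]; ring
    rw [e]
    exact Dvd.dvd.mul_right hdvd _
  refine ⟨hn100, ?_, ?_⟩
  · rintro rfl
    have hN' : N = 1 := by omega
    subst hN'
    norm_num at hdvd2
  · rintro rfl
    have hN' : N = 1 ∨ N = 2 := by omega
    rcases hN' with rfl | rfl <;> norm_num at hdvd2

end Cfsg.Agent.H347.TC.GFive
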