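import Cfsg.Agent.H97.TC.G2Deg

/-!
# The values of the characters of `G₂(q)` at the long root elements (helper347, S2464)

`exists_mult`: `Q` a group with `Z ≤ Z(Q)`, every `v ∉ Z` conjugate to `z v`, `|Q : Z| = s ^ 2`, `χ` a character constant
`= c ≠ χ 1` on `Z - {1}`: `χ 1 - c = s |Z| N`, `N ≥ 1` an integer.

`g2_mult`: `3 ≠ 0` in `F`, `χ ≠ 1` irreducible: `χ (X 11 1) = χ 1 - q ^ 3 N`, `N ≥ 1`, `q ^ 2 (q - 1) N ≤ χ 1`.
-/

set_option autoImplicit false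

open Cfsg Subgroup

namespace Cfsg.Agent.H347.TC.Zint

open Cfsg.Agent.Characters Cfsg.Agent.H97.TC
open scoped ComplexConjugate

universe u

section abs

variable {Q : Type u} [Group Q] [Fintype Q]

theorem exists_mult {χ : Q → ℂ} (hχ : IsCharacter Q χ) {Z : Subgroup Q} (hZ : Z ≤ Subgroup.center Q)
    (h1 : ∀ v ∉ Z, ∀ z ∈ Z, IsConj v (z * v)) {c : ℂ} (h2 : ∀ z ∈ Z, z ≠ 1 → χ z = c) (h3 : χ 1 ≠ c)
    (hZ1 : Z ≠ ⊥) {s : ℕ} (hs : Z.index = s ^ 2) : ∃ N : ℕ, 1 ≤ N ∧ χ 1 - c = s * Nat.card Z * N := by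
  classical
  have : Fintype Z := Fintype.ofFinite _
  have hcf : ∀ {χ : Q → ℂ}, IsCharacter Q χ → ∀ {a b : Q}, IsConj a b → χ a = χ b := by
    intro χ hχ a b hab
    obtain ⟨w, rfl⟩ := isConj_iff.1 hab
    exact (Core.isCharacter_isClassFunction hχ a w).symm
  have hcQ : (Nat.card Q : ℂ) ≠ 0 := Core.card_ne_zero_complex
  have : Finite (IrrCharacter Q) := Core.finite_irr
  have : Fintype (IrrCharacter Q) := Fintype.ofFinite _
  obtain ⟨θ, hn0, z₀, hz₀, hne⟩ : ∃ θ : IrrCharacter Q, classInner χ (θ : Q → ℂ) ≠ 0 ∧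
      ∃ z₀ ∈ Z, (θ : Q → ℂ) z₀ ≠ (θ : Q → ℂ) 1 := by
    by_contra hcon
    push Not at hcon
    obtain ⟨z, hz, hz1⟩ : ∃ z : Q, z ∈ Z ∧ z ≠ 1 := by
      obtain ⟨z, hz⟩ := (Subgroup.ne_bot_iff_exists_ne_one).1 hZ1
      exact ⟨z, z.2, fun h' => hz (Subtype.ext h')⟩
    apply h3
    rw [← h2 z hz hz1]
    obtain ⟨n, hn⟩ := Core.exists_nat_comb hχ
    rw [hn]
    simp only [Finset.sum_apply, Pi.smul_apply]
    refine Finset.sum_congr rfl fun ψ _ => ?_
    by_cases hψ : n ψ = 0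
    · rw [hψ, zero_smul, zero_smul]
    · rw [hcon ψ (by rw [hn, Core.classInner_sum_nsmul_irr]; exact_mod_cast hψ) z hz]
  obtain ⟨n, hn⟩ := Core.classInner_isNat hχ (Core.isIrr_isCharacter θ.2)
  obtain ⟨d, hd0, hd⟩ := Core.isIrr_apply_one θ.2
  have hn1 : 1 ≤ n := by
    rw [Nat.one_le_iff_ne_zero]
    rintro rfl
    exact hn0 (by rw [hn, Nat.cast_zero])
  -- `θ` vanishes outside `Z`
  have hθ0 : (θ : Q → ℂ) 1 ≠ 0 := Central.irr_one_ne_zero θ.2
  have hvan : ∀ v : Q, v ∉ Z → (θ : Q → ℂ) v = 0 := by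
    intro v hv
    have e1 := irr_central_mul θ.2 (hZ hz₀) v
    rw [← hcf (Core.isIrr_isCharacter θ.2) (h1 v hv z₀ hz₀)] at e1
    have e2 : (θ : Q → ℂ) v * ((θ : Q → ℂ) 1 - (θ : Q → ℂ) z₀) = 0 := by linear_combination e1
    exact (mul_eq_zero.1 e2).resolve_right (sub_ne_zero.2 hne.symm)
  -- its degree
  have hds : d = s := by
    have e1 := Core.classInner_irr_self θ.2
    rw [classInner, inv_mul_eq_iff_eq_mul₀ hcQ, mul_one] at e1
    have e2 : ∑ g : Q, (θ : Q → ℂ) g * conj ((θ : Q → ℂ) g) = (Nat.card Z : ℂ) * (d : ℂ) ^ 2 := by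
      have e3 : ∀ g : Q, (θ : Q → ℂ) g * conj ((θ : Q → ℂ) g) = if g ∈ Z then (d : ℂ) ^ 2 else 0 := by
        intro g
        by_cases hg : g ∈ Z
        · rw [if_pos hg, Complex.mul_conj']
          have := norm_central θ.2 (hZ hg) hd
          rw [this]
          push_cast
          rfl
        · rw [if_neg hg, hvan g hg, zero_mul]
      rw [Finset.sum_congr rfl fun g _ => e3 g, ← Finset.sum_filter, Finset.sum_const, nsmul_eq_mul]
      congr 2
      rw [Nat.card_eq_fintype_card, Fintype.card_subtype]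
    rw [e2, ← Z.card_mul_index, hs] at e1
    have e4 : Nat.card Z * d ^ 2 = Nat.card Z * s ^ 2 := by exact_mod_cast e1
    have e5 := Nat.eq_of_mul_eq_mul_left Nat.card_pos e4
    exact Nat.pow_left_injective (n := 2) (by norm_num) e5
  have hsd : ∑ g : Q, χ g * conj ((θ : Q → ℂ) g) = (Nat.card Q : ℂ) * n := by
    rw [← hn, classInner, ← mul_assoc, mul_inv_cancel₀ hcQ, one_mul]
  have hS2 : ∑ g : Q, (if g ∈ Z then c else 0) * conj ((θ : Q → ℂ) g) = 0 := by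
    refine sum_irr_eq_zero θ.2 hZ hz₀ hne _ fun g => ?_
    by_cases hg : g ∈ Z
    · rw [if_pos hg, if_pos (Z.mul_mem hz₀ hg)]
    · rw [if_neg hg, if_neg (fun h => hg ((Z.mul_mem_cancel_left hz₀).1 h))]
  have hS3 : ∑ g : Q, (if g = 1 then χ 1 - c else 0) * conj ((θ : Q → ℂ) g) = (χ 1 - c) * d := by
    rw [Finset.sum_eq_single (1 : Q)]
    · rw [if_pos rfl, hd, map_natCast]
    · intro b _ hb
      rw [if_neg hb, zero_mul]
    · intro h; exact absurd (Finset.mem_univ _) h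
  have hS : (Nat.card Q : ℂ) * n = (χ 1 - c) * d := by
    have key : ∀ g : Q, χ g * conj ((θ : Q → ℂ) g) = (if g ∈ Z then c else 0) * conj ((θ : Q → ℂ) g) +
          (if g = 1 then χ 1 - c else 0) * conj ((θ : Q → ℂ) g) := by
      intro g
      by_cases hg : g ∈ Z
      · by_cases hg1 : g = 1
        · subst hg1
          rw [if_pos hg, if_pos rfl]; ring
        · rw [if_pos hg, if_neg hg1, h2 g hg hg1]; ring
      · have hg1 : g ≠ 1 := fun h => hg (h ▸ Z.one_mem)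
        rw [hvan g hg, map_zero]; ring
    rw [← hsd, ← hS3, Finset.sum_congr rfl fun g _ => key g, Finset.sum_add_distrib, hS2, zero_add]
  refine ⟨n, hn1, ?_⟩
  have hd0' : (d : ℂ) ≠ 0 := by exact_mod_cast hd0.ne'
  have hcard : (Nat.card Q : ℂ) = Nat.card Z * (s : ℂ) ^ 2 := by
    rw [← Z.card_mul_index, hs]; push_cast; ring
  apply mul_right_cancel₀ hd0'
  rw [← hS, hcard, hds]
  ring

/-- In a finite group. -/
theorem exists_mult_group {G : Type u} [Group G] [Finite G] {χ : G → ℂ} (hχ : IsCharacter G χ) {Q Z : Subgroup G}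
    (hZQ : Z ≤ Q) (hZ : ∀ z ∈ Z, ∀ y ∈ Q, y * z = z * y)
    (h1 : ∀ v ∈ Q, v ∉ Z → ∀ z ∈ Z, ∃ w ∈ Q, w * v * w⁻¹ = z * v)
    (h2 : ∀ z ∈ Z, z ≠ 1 → ∀ z' ∈ Z, z' ≠ 1 → IsConj z z') {z₀ : G} (hz₀ : z₀ ∈ Z) (h3 : χ z₀ ≠ χ 1) {s : ℕ}
    (hs : s ^ 2 * Nat.card Z = Nat.card Q) {D : ℕ} (hD : χ 1 = D) :
    ∃ N : ℕ, 1 ≤ N ∧ χ z₀ = ((D : ℤ) - s * Nat.card Z * N : ℤ) ∧ s * (Nat.card Z - 1) * N ≤ D := by
  classical
  have : Fintype Q := Fintype.ofFinite _
  have hcf := Core.isCharacter_isClassFunction hχ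
  have hconj : ∀ {a b : G}, IsConj a b → χ a = χ b := by
    intro a b hab
    obtain ⟨w, rfl⟩ := isConj_iff.1 hab
    exact (hcf a w).symm
  have hχQ : IsCharacter Q (fun x : Q => χ x) := Core.isCharacter_comp Q.subtype hχ
  have hcard : Nat.card (Z.subgroupOf Q) = Nat.card Z := Nat.card_congr (Subgroup.subgroupOfEquivOfLe hZQ).toEquiv
  have hz1 : z₀ ≠ 1 := fun h => h3 (by rw [h])
  have hbot : Z.subgroupOf Q ≠ ⊥ := fun h => hz1 (by
      have : (⟨z₀, hZQ hz₀⟩ : Q) ∈ Z.subgroupOf Q := Subgroup.mem_subgroupOf.2 hz₀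
      rw [h, Subgroup.mem_bot] at this
      exact congrArg Subtype.val this)
  have hidx : (Z.subgroupOf Q).index = s ^ 2 := by
    have h4 := (Z.subgroupOf Q).card_mul_index
    rw [hcard, ← hs, mul_comm (s ^ 2)] at h4
    exact Nat.eq_of_mul_eq_mul_left Nat.card_pos h4
  have hcen : Z.subgroupOf Q ≤ Subgroup.center Q := fun z hz =>
    Subgroup.mem_center_iff.2 fun y => Subtype.ext (hZ z (Subgroup.mem_subgroupOf.1 hz) y y.2)
  have hcc : ∀ v ∉ Z.subgroupOf Q, ∀ z ∈ Z.subgroupOf Q, IsConj v (z * v) := by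
    intro v hv z hz
    obtain ⟨w, hw, e⟩ := h1 v v.2 (fun h => hv (Subgroup.mem_subgroupOf.2 h)) z (Subgroup.mem_subgroupOf.1 hz)
    rw [isConj_iff]
    exact ⟨⟨w, hw⟩, Subtype.ext e⟩
  have hval : ∀ z ∈ Z.subgroupOf Q, z ≠ 1 → (fun x : Q => χ x) z = χ z₀ := fun z hz hz' =>
    hconj (h2 z (Subgroup.mem_subgroupOf.1 hz) (fun h => hz' (Subtype.ext h)) z₀ hz₀ hz1)
  obtain ⟨N, hN1, hN⟩ := exists_mult hχQ hcen hcc (c := χ z₀) hval (fun h => h3 h.symm) hbot hidx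
  obtain ⟨a, m, -, hDm, hca, -⟩ := heis (Q := Q) (χ := fun x : Q => χ x) hχQ hcen
    (fun v hv z hz => (Core.isCharacter_isClassFunction hχQ |> fun hq => by
      obtain ⟨w, hw⟩ := isConj_iff.1 (hcc v hv z hz)
      rw [← hw]
      exact hq v w))
    (c := χ z₀) hval (fun h => h3 h.symm) hbot (s := s) (by rw [hidx]) hD
  rw [hcard] at hDm hN
  rw [Subgroup.coe_one] at hN
  refine ⟨N, hN1, ?_, ?_⟩
  · push_cast
    rw [hD] at hN
    linear_combination -hN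
  · -- `m = s N`
    have hZ0 : (0 : ℝ) < Nat.card Z := by exact_mod_cast (Nat.card_pos (α := Z))
    have h5 : (D : ℝ) - (a - m) = s * Nat.card Z * N := by
      have h6 : (((D : ℝ) - (a - m) : ℝ) : ℂ) = ((s * Nat.card Z * N : ℝ) : ℂ) := by
        push_cast
        rw [hD] at hN
        rw [← hN, hca]
        push_cast
        ring
      exact_mod_cast h6
    have h7 : m = s * N := by
      have h8 : (Nat.card Z : ℝ) * m = Nat.card Z * (s * N) := by
        rw [hDm] at h5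
        linear_combination h5
      exact mul_left_cancel₀ hZ0.ne' h8
    have h9 : (0 : ℝ) ≤ a := Nat.cast_nonneg a
    have h10 : 1 ≤ Nat.card Z := Nat.card_pos
    have h11 : ((s * (Nat.card Z - 1) * N : ℕ) : ℝ) ≤ (D : ℝ) := by
      rw [Nat.cast_mul, Nat.cast_mul, Nat.cast_sub h10, Nat.cast_one, hDm, h7]
      nlinarith
    exact_mod_cast h11

end abs

section H5

variable {F : Type u} [Field F] {G : Type u} [Group G] {A B C D E : F → G} {k l : F}

theorem conj_Q (h : H5 F A B C D E k l) {v : G} (hv : v ∈ h.Q) (hvZ : v ∉ h.Z) {z : G} (hz : z ∈ h.Z) :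
    ∃ w ∈ h.Q, w * v * w⁻¹ = z * v := by
  obtain ⟨a, b, c, d, e, rfl⟩ := hv
  obtain ⟨s, rfl⟩ := hz
  have hk := h.k0
  have hl := h.l0
  have key : ∀ a' b' c' d' : F, k * (d' * a - d * a') + l * (c' * b - c * b') = s →
      ∃ w ∈ h.Q, w * H5.P A B C D E a b c d e * w⁻¹ = E s * H5.P A B C D E a b c d e := by
    intro a' b' c' d' hs
    exact ⟨H5.P A B C D E a' b' c' d' 0, ⟨a', b', c', d', 0, rfl⟩, by rw [h.conj, hs]⟩
  by_cases ha : a = 0
  · by_cases hb : b = 0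
    · by_cases hc : c = 0
      · have hd : d ≠ 0 := by
          rintro rfl
          subst ha hb hc
          exact hvZ ⟨e, (h.E_eq e).symm⟩
        exact key (-s / (k * d)) 0 0 0 (by field_simp; ring)
      · exact key 0 (-s / (l * c)) 0 0 (by field_simp; ring)
    · exact key 0 0 (s / (l * b)) 0 (by field_simp; ring)
  · exact key 0 0 0 (s / (k * a)) (by field_simp; ring)

end H5

section G2

open Cfsg.Lie Cfsg.Agent.Omega.TwoF.GTwoLB

variable {F : Type u} [Field F]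

/-- **The values at the long root elements.** -/
theorem g2_mult [Finite F] (h3 : (3 : F) ≠ 0) [IsSimpleGroup ↥(chevG2.group F)] (χ : IrrCharacter ↥(chevG2.group F))
    (hχ : (χ : ↥(chevG2.group F) → ℂ) ≠ 1) :
    ∃ N : ℕ, 1 ≤ N ∧ (χ : ↥(chevG2.group F) → ℂ) (X 11 1) =
        ((charDegree (χ : ↥(chevG2.group F) → ℂ) : ℤ) - (Nat.card F) ^ 3 * N : ℤ) ∧
      Nat.card F ^ 2 * (Nat.card F - 1) * N ≤ charDegree (χ : ↥(chevG2.group F) → ℂ) := by
  have hfin : Finite ↥(chevG2.group F) := by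
    have := Fintype.ofFinite F
    infer_instance
  have hx1 : X (F := F) 11 1 ≠ 1 := fun h => one_ne_zero ((X_eq_one (by norm_num)).1 h)
  have h := g2_h5 F h3
  obtain ⟨n, hn⟩ := Core.isCharacter_apply_one (Core.isIrr_isCharacter χ.2)
  rw [Blocks.Basic.charDegree_of_eq hn]
  obtain ⟨N, hN1, hN, hle⟩ := exists_mult_group (Core.isIrr_isCharacter χ.2) h.Z_le
    (fun z hz y hy => h.comm_ZQ hz hy) (fun v hv hvZ z hz => conj_Q h hv hvZ hz)
    (by
      rintro _ ⟨e, rfl⟩ he _ ⟨e', rfl⟩ he'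
      have h4 : e ≠ 0 := by rintro rfl; exact he (H5.zero_of_add h.Eadd)
      have h5 : e' ≠ 0 := by rintro rfl; exact he' (H5.zero_of_add h.Eadd)
      exact (g2_long_conj h4).symm.trans (g2_long_conj h5))
    (z₀ := X 11 1) ⟨1, rfl⟩ (fun h => hχ (SporadicA.M11CharSimple.eq_one_of_apply_eq χ.2 hx1 h))
    (s := Nat.card F ^ 2) (by rw [h.card_Z, h.card_Q]; ring) hn
  rw [h.card_Z] at hN hle
  refine ⟨N, hN1, ?_, hle⟩
  rw [hN]
  push_cast
  ring

end G2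

end Cfsg.Agent.H347.TC.Zint
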